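import Groth.Agent.Lib.MatGrp21.Layers
import Mathlib.Data.ZMod.Basic

/-!
# Centralisers of torsion elements in unipotent triangular groups are retracts
-/

set_option autoImplicit false
universe u

open Finset

noncomputable section

namespace Groth.Agent.MatGrp21

variable {k : Type u} [Field k] {n : ℕ}

local notation "GLk" => GL (Fin n) k
local notation "Mat" => Matrix (Fin n) (Fin n) k

/-- A map whose entries agree on a set with regular functions. -/
def RegOn (s : Set (GL (Fin n) k)) (φ : GL (Fin n) k → GL (Fin n) k) : Prop :=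
  ∀ a b, ∃ F : GL (Fin n) k → k, IsReg F ∧ ∀ g ∈ s, ((φ g : GLk) : Mat) a b = F g

/-- A matrix valued function with regular entries on a set. -/
def MatRegOn (s : Set (GL (Fin n) k)) (φ : GL (Fin n) k → Matrix (Fin n) (Fin n) k) : Prop :=
  ∀ a b, ∃ F : GL (Fin n) k → k, IsReg F ∧ ∀ g ∈ s, φ g a b = F g

variable {s : Set (GL (Fin n) k)}

theorem matRegOn_const (M : Mat) : MatRegOn s fun _ => M := fun a b => ⟨_, isReg_const _, fun _ _ => rfl⟩

theorem MatRegOn.add {φ ψ : GLk → Mat} (h : MatRegOn s φ) (h' : MatRegOn s ψ) :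
    MatRegOn s fun g => φ g + ψ g := fun a b => by
  obtain ⟨F, hF, hFv⟩ := h a b
  obtain ⟨F', hF', hFv'⟩ := h' a b
  exact ⟨_, hF.add hF', fun g hg => by simp [hFv g hg, hFv' g hg]⟩

theorem MatRegOn.sub {φ ψ : GLk → Mat} (h : MatRegOn s φ) (h' : MatRegOn s ψ) :
    MatRegOn s fun g => φ g - ψ g := fun a b => by
  obtain ⟨F, hF, hFv⟩ := h a b
  obtain ⟨F', hF', hFv'⟩ := h' a b
  exact ⟨_, hF.sub hF', fun g hg => by simp [hFv g hg, hFv' g hg]⟩

theorem MatRegOn.smul {φ : GLk → Mat} (h : MatRegOn s φ) (c : k) : MatRegOn s fun g => c • φ g := fun a b => by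
  obtain ⟨F, hF, hFv⟩ := h a b
  exact ⟨_, (isReg_const c).mul hF, fun g hg => by simp [hFv g hg]⟩

theorem MatRegOn.mul {φ ψ : GLk → Mat} (h : MatRegOn s φ) (h' : MatRegOn s ψ) :
    MatRegOn s fun g => φ g * ψ g := fun a b => by
  choose F hF hFv using h
  choose F' hF' hFv' using h'
  exact ⟨fun g => ∑ c, F a c g * F' c b g, IsReg.sum _ fun c _ => (hF a c).mul (hF' c b), fun g hg => by
    simp [Matrix.mul_apply, hFv _ _ g hg, hFv' _ _ g hg]⟩

theorem MatRegOn.pow {φ : GLk → Mat} (h : MatRegOn s φ) : ∀ m : ℕ, MatRegOn s fun g => φ g ^ m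
  | 0 => by simpa only [pow_zero] using matRegOn_const (s := s) (1 : Mat)
  | m + 1 => by simpa only [pow_succ] using (MatRegOn.pow h m).mul h

theorem matRegOn_sum {σ : Type*} (t : Finset σ) {φ : σ → GLk → Mat} (h : ∀ j ∈ t, MatRegOn s (φ j)) :
    MatRegOn s fun g => ∑ j ∈ t, φ j g := by
  classical
  induction t using Finset.induction_on with
  | empty => simpa using matRegOn_const (s := s) (0 : Mat)
  | insert a t ha ih =>
    simp only [Finset.sum_insert ha]
    exact (h a (mem_insert_self _ _)).add (ih fun j hj => h j (mem_insert_of_mem hj))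

theorem MatRegOn.congr {φ ψ : GLk → Mat} (h : MatRegOn s φ) (he : ∀ g ∈ s, ψ g = φ g) : MatRegOn s ψ := fun a b => by
  obtain ⟨F, hF, hFv⟩ := h a b
  exact ⟨F, hF, fun g hg => by rw [he g hg, hFv g hg]⟩

theorem regOn_iff {φ : GLk → GLk} : RegOn s φ ↔ MatRegOn s fun g => (φ g : Mat) := Iff.rfl

theorem regOn_id : RegOn s id := fun a b => ⟨_, isReg_entry a b, fun _ _ => rfl⟩

theorem RegOn.mul {φ ψ : GLk → GLk} (h : RegOn s φ) (h' : RegOn s ψ) : RegOn s fun g => φ g * ψ g := by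
  refine regOn_iff.2 ?_
  simp only [Units.val_mul]
  exact MatRegOn.mul h h'

theorem regOn_const (x : GLk) : RegOn s fun _ => x := fun _ _ => ⟨_, isReg_const _, fun _ _ => rfl⟩

theorem RegOn.pow {φ : GLk → GLk} (h : RegOn s φ) (m : ℕ) : RegOn s fun g => φ g ^ m := by
  refine regOn_iff.2 ?_
  simp only [Units.val_pow_eq_pow_val]
  exact MatRegOn.pow h m

/-- The inverse of a regular family of unipotent matrices is regular. -/
theorem RegOn.inv {φ : GLk → GLk} (h : RegOn s φ) (hu : ∀ g ∈ s, IsUnip (φ g)) : RegOn s fun g => (φ g)⁻¹ := by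
  refine regOn_iff.2 (MatRegOn.congr
    (matRegOn_sum (s := s) (range n) fun j _ => ((matRegOn_const (1 : Mat)).sub h).pow j) fun g hg => ?_)
  have h1 : ((1 : Mat) - (φ g : Mat)) ^ n = 0 := by
    rw [← neg_sub, neg_pow, (show ((φ g : Mat) - 1) ^ n = 0 from hu g hg), mul_zero]
  have h2 := geom_sum_mul_neg ((1 : Mat) - (φ g : Mat)) n
  rw [h1, sub_zero, sub_sub_cancel] at h2
  calc ((φ g)⁻¹ : GLk).val = (∑ j ∈ range n, ((1 : Mat) - (φ g : Mat)) ^ j) * (φ g : Mat) * ((φ g)⁻¹ : GLk).val := by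
        rw [h2, one_mul]
    _ = ∑ j ∈ range n, ((1 : Mat) - (φ g : Mat)) ^ j := by rw [mul_assoc, Units.mul_inv, mul_one]

theorem RegOn.continuousOn {φ : GLk → GLk} (h : RegOn s φ) : ContinuousOn φ s := by
  rw [continuousOn_iff_isClosed]
  intro t ht
  obtain ⟨S, hS⟩ := isClosed_iff.1 ht
  choose F hF hFv using h
  have hp : ∀ p : MvPolynomial (Fin n × Fin n) k, IsReg fun g => MvPolynomial.eval (fun x => F x.1 x.2 g) p := fun p => by
    induction p using MvPolynomial.induction_on with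
    | C c => simpa using isReg_const (n := n) c
    | add p q hp hq => simpa using hp.add hq
    | mul_X p x hp => simpa using hp.mul (hF x.1 x.2)
  refine ⟨⋂ p ∈ S, {g | MvPolynomial.eval (fun x => F x.1 x.2 g) p = 0},
    isClosed_biInter fun p _ => isClosed_eq (hp p) (isReg_const 0), ?_⟩
  ext g
  simp only [Set.mem_inter_iff, Set.mem_preimage, Set.mem_iInter, Set.mem_ofPred_eq, hS]
  refine ⟨fun ⟨h1, h2⟩ => ⟨fun p hp => ?_, h2⟩, fun ⟨h1, h2⟩ => ⟨fun p hp => ?_, h2⟩⟩ <;>
  · have e : (fun x : Fin n × Fin n => F x.1 x.2 g) = ent (φ g) := funext fun x => (hFv x.1 x.2 g h2).symm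
    have := h1 p hp
    first
      | rwa [e]
      | rwa [e] at this

/-- Regular roots of unipotent matrices. -/
theorem exists_rootMap {L : ℕ} (hL : (L : k) ≠ 0) :
    ∃ Φ : GLk → GLk, (∀ x, IsUnip x → Φ x ^ L = x ∧ ∀ H : Subgroup GLk, IsClosed (H : Set GLk) → x ∈ H → Φ x ∈ H) ∧
      ∀ (s : Set GLk) (ψ : GLk → GLk), RegOn s ψ → (∀ g ∈ s, IsUnip (ψ g)) → RegOn s fun g => Φ (ψ g) := by
  classical
  obtain ⟨p, hp⟩ := CharP.exists k
  rcases CharP.char_is_prime_or_zero k p with hpp | rfl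
  · have := Fact.mk hpp
    have hcop := coprime_pow_ringChar (k := k) p hL n
    let a : ℕ := ((ZMod.unitOfCoprime L hcop)⁻¹ : (ZMod (p ^ n))ˣ).val.val
    refine ⟨fun x => x ^ a, fun x hx => ⟨?_, fun H _ hxH => H.pow_mem hxH a⟩, fun s ψ hψ _ => hψ.pow a⟩
    have hNe : NeZero (p ^ n) := ⟨pow_ne_zero _ hpp.ne_zero⟩
    have hmod : ((a * L : ℕ) : ZMod (p ^ n)) = ((1 : ℕ) : ZMod (p ^ n)) := by
      rw [Nat.cast_mul, Nat.cast_one, ZMod.natCast_zmod_val, ← ZMod.coe_unitOfCoprime L hcop, ← Units.val_mul,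
        inv_mul_cancel, Units.val_one]
    rw [ZMod.natCast_eq_natCast_iff] at hmod
    rw [← pow_mul, pow_eq_pow_mod _ (pow_ringChar_pow hx p), hmod, ← pow_eq_pow_mod _ (pow_ringChar_pow hx p), pow_one]
  · have : CharZero k := CharP.charP_to_charZero k
    let Φ : GLk → GLk := fun x => if h : IsUnip x then
      Matrix.GeneralLinearGroup.mkOfDetNeZero (powAt x (L : k)⁻¹) (by rw [det_powAt h]; exact one_ne_zero) else 1
    have hΦ : ∀ x, IsUnip x → ((Φ x : GLk) : Mat) = powAt x (L : k)⁻¹ := fun x hx => by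
      simp only [Φ, dif_pos hx]
      rfl
    refine ⟨Φ, fun x hx => ⟨Units.ext ?_, fun H hH hxH => ?_⟩, fun s ψ hψ hu => ?_⟩
    · rw [Units.val_pow_eq_pow_val, hΦ x hx, powAt_mul_pow hx, mul_inv_cancel₀ hL, ← Nat.cast_one, powAt_nat hx,
        pow_one]
    · obtain ⟨h, hh, he⟩ := exists_powAt_mem hH hxH hx (L : k)⁻¹
      rwa [show Φ x = h from Units.ext ((hΦ x hx).trans he.symm)]
    · refine regOn_iff.2 (MatRegOn.congr (matRegOn_sum (s := s) (range n) fun j _ =>
        ((MatRegOn.sub hψ (matRegOn_const (1 : Mat))).pow j).smul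
          ((Nat.factorial j : k)⁻¹ * (descPochhammer k j).eval (L : k)⁻¹)) fun g hg => ?_)
      rw [hΦ _ (hu g hg), powAt_eq]

/-- The centraliser of a torsion element in a closed unipotent triangular group is a retract. -/
theorem exists_retraction {U : Subgroup (GL (Fin n) k)} (hU : IsClosed (U : Set (GL (Fin n) k))) (hUl : U ≤ lay 1)
    {x : GL (Fin n) k} (hx : x ∈ upper) (hxU : ∀ g ∈ U, x⁻¹ * g * x ∈ U) {L : ℕ} (hL : (L : k) ≠ 0)
    (hxL : x ^ L = 1) :
    ∃ R : GL (Fin n) k → GL (Fin n) k, ContinuousOn R (U : Set GLk) ∧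
      ∀ g ∈ U, R g ∈ U ∧ Commute x (R g) ∧ (Commute x g → R g = g) := by
  obtain ⟨Φ, hΦ, hΦr⟩ := exists_rootMap (k := k) (n := n) hL
  let w : GLk → GLk := fun g => x⁻¹ * (g⁻¹ * x * g)
  let r : ℕ → GLk → GLk := fun m g => (x⁻¹) ^ m * (g⁻¹ * x * g) ^ m
  let v0 : ℕ → GLk → GLk := fun N g => Nat.rec 1 (fun m acc => acc * r m g) N
  let step : GLk → GLk := fun g => g * (Φ (v0 L g))⁻¹
  have hwU : ∀ g ∈ U, w g ∈ U := fun g hg => by
    rw [show w g = (x⁻¹ * g⁻¹ * x) * g by simp only [w]; group]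
    exact U.mul_mem (hxU _ (U.inv_mem hg)) hg
  have hfix : ∀ g ∈ U, Commute x g → step g = g := fun g hg hc => by
    have h1 : g⁻¹ * x * g = x := by rw [mul_assoc, hc.eq, inv_mul_cancel_left]
    have h2 : ∀ N, v0 N g = 1 := fun N => by
      induction N with
      | zero => rfl
      | succ N ih =>
        show v0 N g * r N g = 1
        rw [ih, one_mul]
        simp only [r, h1, inv_pow, inv_mul_cancel]
    have h3 : Φ (v0 L g) = 1 := by
      rw [h2]
      exact Subgroup.mem_bot.1 ((hΦ 1 isUnip_one).2 ⊥ (isClosed_singleton' 1) (Subgroup.one_mem _))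
    simp only [step, h3, inv_one, mul_one]
  -- one step
  have hstep : ∀ i, 1 ≤ i → ContinuousOn step {g | g ∈ U ∧ w g ∈ lay i} ∧
      ∀ g ∈ U, w g ∈ lay i → step g ∈ U ∧ w (step g) ∈ lay (i + 1) := by
    intro i hi
    set c := scal i x⁻¹ with hc
    have hUi : IsClosed ((U ⊓ lay i : Subgroup GLk) : Set GLk) := isClosed_inf hU (isClosed_lay i)
    have hconj : ∀ g ∈ U ⊓ lay i, x⁻¹ * g * x ∈ U ⊓ lay i ∧ phi i (x⁻¹ * g * x) = c * phi i g := fun g hg => by
      have h1 := conj_mem_lay ((upper : Subgroup GLk).inv_mem hx) hg.2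
      have h2 := phi_conj hi ((upper : Subgroup GLk).inv_mem hx) hg.2
      rw [inv_inv] at h1 h2
      exact ⟨⟨hxU g hg.1, h1⟩, h2⟩
    have hr : ∀ g ∈ U, w g ∈ lay i → ∀ m, r m g ∈ U ⊓ lay i ∧ r (m + 1) g = (x⁻¹ * r m g * x) * w g := by
      intro g hg hgw m
      have e : ∀ m, r (m + 1) g = (x⁻¹ * r m g * x) * w g := fun m => by
        simp only [r, w, pow_succ]
        rw [((Commute.refl x⁻¹).pow_left m).eq]
        group
      refine ⟨?_, e m⟩
      induction m with
      | zero =>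
        have : r 0 g = 1 := by simp [r]
        rw [this]
        exact Subgroup.one_mem _
      | succ m ih =>
        rw [e m]
        exact Subgroup.mul_mem _ (hconj _ ih).1 ⟨hwU g hg, hgw⟩
    have hv0 : ∀ g ∈ U, w g ∈ lay i → ∀ N, v0 N g ∈ U ⊓ lay i ∧ phi i (v0 N g) = ∑ m ∈ range N, phi i (r m g) := by
      intro g hg hgw N
      induction N with
      | zero => exact ⟨Subgroup.one_mem _, by rw [Finset.sum_range_zero]; exact phi_one i hi⟩
      | succ N ih =>
        refine ⟨Subgroup.mul_mem _ ih.1 (hr g hg hgw N).1, ?_⟩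
        rw [Finset.sum_range_succ, ← ih.2]
        exact phi_mul hi ih.1.2 (hr g hg hgw N).1.2
    have hunip : ∀ g ∈ {g | g ∈ U ∧ w g ∈ lay i}, IsUnip (v0 L g) := fun g hg =>
      isUnip_of_mem_lay (lay_anti hi (hv0 g hg.1 hg.2 L).1.2)
    refine ⟨?_, fun g hg hgw => ?_⟩
    · refine RegOn.continuousOn ?_
      have hA : RegOn {g | g ∈ U ∧ w g ∈ lay i} fun g => g⁻¹ * x * g :=
        ((regOn_id.inv fun g hg => isUnip_of_mem_lay (hUl hg.1)).mul (regOn_const x)).mul regOn_id
      have hV : ∀ N, RegOn {g | g ∈ U ∧ w g ∈ lay i} fun g => v0 N g := fun N => by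
        induction N with
        | zero => exact regOn_const 1
        | succ N ih => exact ih.mul ((regOn_const ((x⁻¹) ^ N)).mul (hA.pow N))
      refine regOn_id.mul (RegOn.inv (hΦr _ _ (hV L) hunip) fun g hg => ?_)
      exact isUnip_of_mem_lay (lay_anti hi ((hΦ _ (hunip g hg)).2 _ hUi (hv0 g hg.1 hg.2 L).1).2)
    · obtain ⟨hvm, hvs⟩ := hv0 g hg hgw L
      obtain ⟨hΦL, hΦm⟩ := hΦ _ (hunip g ⟨hg, hgw⟩)
      set v := Φ (v0 L g) with hv
      have hvU : v ∈ U ⊓ lay i := hΦm _ hUi hvm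
      refine ⟨U.mul_mem hg (U.inv_mem hvU.1), ?_⟩
      have he : w (step g) = (x⁻¹ * v * x) * w g * v⁻¹ := by
        simp only [w, step, ← hv]
        group
      rw [he]
      have hmem : (x⁻¹ * v * x) * w g * v⁻¹ ∈ U ⊓ lay i :=
        Subgroup.mul_mem _ (Subgroup.mul_mem _ (hconj v hvU).1 ⟨hwU g hg, hgw⟩) (Subgroup.inv_mem _ hvU)
      refine (phi_eq_zero_iff hi hmem.2).1 ?_
      rw [phi_mul hi (Subgroup.mul_mem _ (hconj v hvU).1 ⟨hwU g hg, hgw⟩).2 ((lay i).inv_mem hvU.2),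
        phi_mul hi (hconj v hvU).1.2 hgw, (hconj v hvU).2, phi_inv hi hvU.2]
      have hLv : (L : k) • phi i v = ∑ m ∈ range L, phi i (r m g) := by rw [← hvs, ← hΦL, phi_pow hi hvU.2]
      have hrec : ∀ m, phi i (r (m + 1) g) = c * phi i (r m g) + phi i (w g) := fun m => by
        rw [(hr g hg hgw m).2, phi_mul hi (hconj _ (hr g hg hgw m).1).1.2 hgw, (hconj _ (hr g hg hgw m).1).2]
      have hL0 : r L g = 1 := by
        have e : (g⁻¹ * x * g) ^ L = 1 := by
          have h := conj_pow (a := g⁻¹) (b := x) (i := L)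
          rw [inv_inv, hxL, mul_one, inv_mul_cancel] at h
          exact h
        simp only [r, e, inv_pow, hxL, inv_one, mul_one]
      have hr0 : r 0 g = 1 := by simp [r]
      have hsum : ∑ m ∈ range L, phi i (r (m + 1) g) = ∑ m ∈ range L, phi i (r m g) := by
        have h1 := Finset.sum_range_succ' (fun m => phi i (r m g)) L
        have h2 := Finset.sum_range_succ (fun m => phi i (r m g)) L
        rw [hr0, phi_one i hi, add_zero] at h1
        rw [hL0, phi_one i hi, add_zero] at h2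
        rw [← h1, h2]
      funext a
      have h1 := congrFun hLv a
      have h2 := congrFun hsum a
      simp only [hrec, Finset.sum_apply, Pi.add_apply, Pi.mul_apply, Pi.smul_apply, smul_eq_mul,
        Finset.sum_add_distrib, ← Finset.mul_sum, Finset.sum_const, Finset.card_range, nsmul_eq_mul] at h1 h2
      simp only [Pi.add_apply, Pi.mul_apply, Pi.neg_apply, Pi.zero_apply]
      rw [← h1] at h2
      have hz : (L : k) * (c a * phi i v a + phi i (w g) a + -phi i v a) = 0 := by linear_combination h2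
      exact (mul_eq_zero.1 hz).resolve_left hL
  -- the composite
  suffices h : ∀ i : ℕ, ∃ R : GLk → GLk, ContinuousOn R (U : Set GLk) ∧
      ∀ g ∈ U, R g ∈ U ∧ w (R g) ∈ lay (i + 1) ∧ (Commute x g → R g = g) by
    obtain ⟨R, hR, hRv⟩ := h n
    refine ⟨R, hR, fun g hg => ⟨(hRv g hg).1, ?_, (hRv g hg).2.2⟩⟩
    have := (hRv g hg).2.1
    rw [lay_eq_bot (Nat.le_succ n), Subgroup.mem_bot] at this
    have h1 : (R g)⁻¹ * x * R g = x := (inv_mul_eq_one.1 this).symm
    show x * R g = R g * x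
    rw [mul_assoc, inv_mul_eq_iff_eq_mul] at h1
    exact h1
  intro i
  induction i with
  | zero => exact ⟨id, continuousOn_id, fun g hg => ⟨hg, hUl (hwU g hg), fun _ => rfl⟩⟩
  | succ i ih =>
    obtain ⟨R, hR, hRv⟩ := ih
    obtain ⟨hc, hs⟩ := hstep (i + 1) (Nat.le_add_left 1 i)
    refine ⟨step ∘ R, hc.comp hR (fun g hg => ⟨(hRv g hg).1, (hRv g hg).2.1⟩), fun g hg => ?_⟩
    refine ⟨(hs _ (hRv g hg).1 (hRv g hg).2.1).1, (hs _ (hRv g hg).1 (hRv g hg).2.1).2, fun hcg => ?_⟩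
    show step (R g) = g
    rw [(hRv g hg).2.2 hcg]
    exact hfix g hg hcg

/-- Centralisers of finite commuting torsion sets in irreducible unipotent triangular groups are irreducible. -/
theorem isPreirreducible_centralizer {U : Subgroup (GL (Fin n) k)} (hU : IsClosed (U : Set (GL (Fin n) k)))
    (hUl : U ≤ lay 1) (hirr : IsPreirreducible (U : Set (GL (Fin n) k))) (S : Finset (GL (Fin n) k))
    (hSu : ∀ x ∈ S, x ∈ upper) (hSU : ∀ x ∈ S, ∀ g ∈ U, x⁻¹ * g * x ∈ U) (hS : ∀ x ∈ S, ∀ y ∈ S, Commute x y)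
    (hSt : ∀ x ∈ S, ∃ L : ℕ, (L : k) ≠ 0 ∧ x ^ L = 1) :
    IsPreirreducible ((U ⊓ Subgroup.centralizer (S : Set (GL (Fin n) k)) : Subgroup (GL (Fin n) k)) : Set GLk) := by
  classical
  induction S using Finset.induction_on with
  | empty =>
    convert hirr using 1
    ext g
    simp [Subgroup.mem_centralizer_iff]
  | insert x S _ ih =>
    have hirr' := ih (fun y hy => hSu y (mem_insert_of_mem hy)) (fun y hy => hSU y (mem_insert_of_mem hy))
      (fun a ha b hb => hS a (mem_insert_of_mem ha) b (mem_insert_of_mem hb)) (fun y hy => hSt y (mem_insert_of_mem hy))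
    set U' := U ⊓ Subgroup.centralizer (S : Set GLk) with hU'
    obtain ⟨L, hL, hxL⟩ := hSt x (mem_insert_self _ _)
    obtain ⟨R, hR, hRv⟩ := exists_retraction (U := U') (isClosed_inf hU (isClosed_centralizer _))
      (fun g hg => hUl hg.1) (hSu x (mem_insert_self _ _))
      (fun g hg => ⟨hSU x (mem_insert_self _ _) g hg.1, Subgroup.mem_centralizer_iff.2 fun y hy => by
        have h1 : Commute y x := hS y (mem_insert_of_mem hy) x (mem_insert_self _ _)
        have h2 : Commute y g := Subgroup.mem_centralizer_iff.1 hg.2 y hy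
        exact (h1.inv_right.mul_right h2).mul_right h1⟩) hL hxL
    convert hirr'.image R hR using 1
    ext g
    simp only [SetLike.mem_coe, Set.mem_image, Subgroup.mem_inf, Subgroup.mem_centralizer_iff, Finset.coe_insert,
      Set.forall_mem_insert, Finset.mem_coe]
    constructor
    · rintro ⟨hgU, hgx, hgS⟩
      exact ⟨g, ⟨hgU, Subgroup.mem_centralizer_iff.2 hgS⟩, (hRv g ⟨hgU, Subgroup.mem_centralizer_iff.2 hgS⟩).2.2 hgx⟩
    · rintro ⟨g', hg', rfl⟩
      obtain ⟨h1, h2, -⟩ := hRv g' hg'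
      exact ⟨h1.1, h2, fun y hy => Subgroup.mem_centralizer_iff.1 h1.2 y hy⟩

end Groth.Agent.MatGrp21
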