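import Mathlib.Algebra.MonoidAlgebra.NoZeroDivisors
import Mathlib.Algebra.AffineMonoid.UniqueSums
import Mathlib.LinearAlgebra.LinearIndependent.Lemmas
import Mathlib.Algebra.MvPolynomial.Eval
import Mathlib.GroupTheory.QuotientGroup.Basic

/-!
# Subgroups of a split torus: their relations and polynomial functions
-/

set_option autoImplicit false
universe u v

open AddMonoidAlgebra

noncomputable section

namespace Groth.Agent.MatGrp21

variable {k : Type u} [Field k] {n : ℕ}

/-- The monomials at a point of the split torus. -/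
def pw (δ : Fin n → kˣ) : (Fin n → ℤ) →+ Additive kˣ :=
  ∑ i, (zmultiplesHom (Additive kˣ) (Additive.ofMul (δ i))).comp (Pi.evalAddMonoidHom (fun _ : Fin n => ℤ) i)

theorem pw_single (δ : Fin n → kˣ) (i : Fin n) : pw δ (Pi.single i 1) = Additive.ofMul (δ i) := by
  classical
  simp [pw, AddMonoidHom.finsetSum_apply, zmultiplesHom_apply, Pi.single_apply, Finset.sum_ite_eq']

theorem pw_mul (δ δ' : Fin n → kˣ) (a : Fin n → ℤ) : pw (δ * δ') a = pw δ a + pw δ' a := by
  simp [pw, AddMonoidHom.finsetSum_apply, zmultiplesHom_apply, zsmul_add, Finset.sum_add_distrib]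

theorem pw_one (a : Fin n → ℤ) : pw (1 : Fin n → kˣ) a = 0 := by
  simp [pw, AddMonoidHom.finsetSum_apply, zmultiplesHom_apply]

variable {G : Type v} [Group G] (e : G →* (Fin n → kˣ))

/-- The relations between the coordinates of a subgroup of the split torus. -/
def rel : AddSubgroup (Fin n → ℤ) := ⨅ g : G, (pw (e g)).ker

theorem mem_rel {a : Fin n → ℤ} : a ∈ rel e ↔ ∀ g, pw (e g) a = 0 := by
  simp [rel, AddSubgroup.mem_iInf]

/-- The character of the quotient lattice attached to a point satisfying the relations. -/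
def chr (δ : Fin n → kˣ) (hδ : ∀ a ∈ rel e, pw δ a = 0) : Multiplicative ((Fin n → ℤ) ⧸ rel e) →* k :=
  (Units.coeHom k).comp (AddMonoidHom.toMultiplicativeLeft (QuotientAddGroup.lift (rel e) (pw δ) hδ))

theorem chr_mk (δ : Fin n → kˣ) (hδ : ∀ a ∈ rel e, pw δ a = 0) (a : Fin n → ℤ) :
    chr e δ hδ (Multiplicative.ofAdd (QuotientAddGroup.mk a)) = ((Additive.toMul (pw δ a) : kˣ) : k) := rfl

/-- The tautological map from the polynomial ring. -/
def toAlg : MvPolynomial (Fin n) k →ₐ[k] k[(Fin n → ℤ) ⧸ rel e] :=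
  MvPolynomial.aeval fun i => single (QuotientAddGroup.mk (Pi.single i 1)) 1

theorem lift_toAlg (δ : Fin n → kˣ) (hδ : ∀ a ∈ rel e, pw δ a = 0) (p : MvPolynomial (Fin n) k) :
    lift k k _ (chr e δ hδ) (toAlg e p) = MvPolynomial.eval (fun i => (δ i : k)) p := by
  rw [← AlgHom.comp_apply, toAlg, MvPolynomial.comp_aeval]
  show MvPolynomial.aeval _ p = _
  rw [MvPolynomial.aeval_eq_eval]
  congr 1
  congr 1
  funext i
  rw [lift_single, one_smul, chr_mk, pw_single]
  rfl

theorem eq_zero_of_lift (x : k[(Fin n → ℤ) ⧸ rel e])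
    (h : ∀ g, lift k k _ (chr e (e g) fun _ ha => (mem_rel e).1 ha g) x = 0) : x = 0 := by
  let χ : ((Fin n → ℤ) ⧸ rel e) → (G →* k) := fun q =>
    { toFun := fun g => chr e (e g) (fun _ ha => (mem_rel e).1 ha g) (Multiplicative.ofAdd q)
      map_one' := by
        obtain ⟨a, rfl⟩ := QuotientAddGroup.mk_surjective q
        rw [chr_mk, map_one, pw_one]
        rfl
      map_mul' := fun g g' => by
        obtain ⟨a, rfl⟩ := QuotientAddGroup.mk_surjective q
        rw [chr_mk, chr_mk, chr_mk, map_mul, pw_mul]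
        rfl }
  have hinj : Function.Injective χ := fun q q' hqq' => by
    obtain ⟨a, rfl⟩ := QuotientAddGroup.mk_surjective q
    obtain ⟨b, rfl⟩ := QuotientAddGroup.mk_surjective q'
    rw [QuotientAddGroup.eq, mem_rel]
    intro g
    have hg := DFunLike.congr_fun hqq' g
    simp only [χ, MonoidHom.coe_mk, OneHom.coe_mk, chr_mk, Units.val_inj, EmbeddingLike.apply_eq_iff_eq] at hg
    rw [map_add, map_neg, hg, neg_add_cancel]
  have hli : LinearIndependent k fun q => (χ q : G → k) :=
    (linearIndependent_monoidHom G k).comp χ hinj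
  refine AddMonoidAlgebra.ext (DFunLike.ext _ _ fun q => ?_)
  have key := linearIndependent_iff.1 hli x.coeff (funext fun g => by
    have hg := h g
    rw [lift_apply] at hg
    rw [Finsupp.linearCombination_apply, Finsupp.sum, Finset.sum_apply, Pi.zero_apply]
    exact hg)
  rw [key]
  rfl

/-- A polynomial vanishing on a subgroup vanishes wherever the relations of the subgroup hold. -/
theorem eval_eq_zero_of_rel (p : MvPolynomial (Fin n) k)
    (hp : ∀ g, MvPolynomial.eval (fun i => (e g i : k)) p = 0) (δ : Fin n → kˣ) (hδ : ∀ a ∈ rel e, pw δ a = 0) :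
    MvPolynomial.eval (fun i => (δ i : k)) p = 0 := by
  rw [← lift_toAlg e δ hδ, eq_zero_of_lift e (toAlg e p) (fun g => by rw [lift_toAlg, hp]), map_zero]

/-- A subgroup with saturated relations is irreducible. -/
theorem forall_eval_eq_zero_or (hsat : ∀ (m : ℕ) (a : Fin n → ℤ), m ≠ 0 → m • a ∈ rel e → a ∈ rel e)
    (p q : MvPolynomial (Fin n) k)
    (h : ∀ g, MvPolynomial.eval (fun i => (e g i : k)) p = 0 ∨ MvPolynomial.eval (fun i => (e g i : k)) q = 0) :
    (∀ g, MvPolynomial.eval (fun i => (e g i : k)) p = 0) ∨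
      ∀ g, MvPolynomial.eval (fun i => (e g i : k)) q = 0 := by
  haveI : IsAddTorsionFree ((Fin n → ℤ) ⧸ rel e) := ⟨fun m hm x y hxy => by
    obtain ⟨a, rfl⟩ := QuotientAddGroup.mk_surjective x
    obtain ⟨b, rfl⟩ := QuotientAddGroup.mk_surjective y
    rw [QuotientAddGroup.eq]
    refine hsat m _ hm ?_
    have hxy' : (QuotientAddGroup.mk (m • a) : (Fin n → ℤ) ⧸ rel e) = QuotientAddGroup.mk (m • b) := hxy
    rw [QuotientAddGroup.eq] at hxy'
    rwa [smul_add, smul_neg]⟩
  haveI : AddMonoid.FG ((Fin n → ℤ) ⧸ rel e) :=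
    AddMonoid.fg_of_surjective (QuotientAddGroup.mk' (rel e)) (QuotientAddGroup.mk'_surjective _)
  haveI := AffineAddMonoid.to_twoUniqueSums (M := (Fin n → ℤ) ⧸ rel e)
  have hz : toAlg e p * toAlg e q = 0 := eq_zero_of_lift e _ fun g => by
    rw [map_mul, lift_toAlg, lift_toAlg, mul_eq_zero]
    exact h g
  rcases mul_eq_zero.1 hz with hp | hq
  · exact Or.inl fun g => by rw [← lift_toAlg e (e g) (fun _ ha => (mem_rel e).1 ha g), hp, map_zero]
  · exact Or.inr fun g => by rw [← lift_toAlg e (e g) (fun _ ha => (mem_rel e).1 ha g), hq, map_zero]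

end Groth.Agent.MatGrp21
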