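import Groth.Agent.Lib.MatGrp21.Zariski
import Groth.Agent.Lib.SimDiag.Basic
import Mathlib.LinearAlgebra.Semisimple
import Mathlib.LinearAlgebra.Eigenspace.Semisimple
import Mathlib.LinearAlgebra.Eigenspace.Triangularizable
import Mathlib.FieldTheory.Separable
import Mathlib.LinearAlgebra.Matrix.Basis
import Mathlib.LinearAlgebra.Matrix.IsDiag
import Mathlib.FieldTheory.IsAlgClosed.Basic

/-!
# Simultaneous diagonalisation of commuting torsion matrices
-/

set_option autoImplicit false
universe u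

noncomputable section

namespace Groth.Agent.MatGrp21

variable {k : Type u} [Field k] {n : ℕ}

local notation "GLk" => GL (Fin n) k

theorem exists_diagonalize [IsAlgClosed k] (S : Set (GL (Fin n) k)) (hS : ∀ s ∈ S, ∀ t ∈ S, Commute s t)
    (hSt : ∀ s ∈ S, ∃ L : ℕ, (L : k) ≠ 0 ∧ s ^ L = 1) :
    ∃ P : GL (Fin n) k, ∀ s ∈ S, ((P * s * P⁻¹ : GLk) : Matrix (Fin n) (Fin n) k).IsDiag := by
  classical
  let f : S → Module.End k (Fin n → k) := fun s => Matrix.toLinAlgEquiv' (s.1 : Matrix (Fin n) (Fin n) k)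
  have hcomm : ∀ i j, Commute (f i) (f j) := fun i j =>
    ((hS i i.2 j j.2).map (Units.coeHom _)).map Matrix.toLinAlgEquiv'.toAlgHom
  have hdiag : ∀ i, ⨆ μ : k, Module.End.eigenspace ((f i).restrictScalars k) μ = ⊤ := fun i => by
    obtain ⟨L, hL, hsL⟩ := hSt i i.2
    have hfL : f i ^ L = 1 := by
      show Matrix.toLinAlgEquiv' _ ^ L = 1
      rw [← map_pow, ← Units.val_pow_eq_pow_val, hsL, Units.val_one, map_one]
    have hss : (f i).IsSemisimple :=
      Module.End.isSemisimple_of_squarefree_aeval_eq_zero (p := Polynomial.X ^ L - Polynomial.C 1)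
        (Polynomial.separable_X_pow_sub_C 1 hL one_ne_zero).squarefree (by simp [hfL])
    have h1 : ⨆ μ : k, Module.End.maxGenEigenspace (f i) μ = ⊤ := Module.End.iSup_maxGenEigenspace_eq_top _
    simpa [hss.isFinitelySemisimple.maxGenEigenspace_eq_eigenspace] using h1
  have htop := SimDiag.iSup_iInf_eigenspace_eq_top (R := k) f hcomm hdiag
    fun v => ⟨⊤, trivial, Module.Finite.fg_top, fun _ _ _ => trivial⟩
  let B : Set (Fin n → k) := {v | ∀ s : S, ∃ c : k, f s v = c • v}
  have hB : Submodule.span k B = ⊤ := by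
    rw [eq_top_iff, ← htop]
    refine iSup_le fun χ v hv => Submodule.subset_span fun s => ⟨χ s, ?_⟩
    exact Module.End.mem_eigenspace_iff.1 ((Submodule.mem_iInf _).1 hv s)
  obtain ⟨b, hbB, hbspan, hbli⟩ := exists_linearIndependent k B
  let e := Module.Basis.mk hbli (by rw [Subtype.range_coe, hbspan, hB])
  haveI : Fintype b := FiniteDimensional.fintypeBasisIndex e
  have hcard : Fintype.card b = n := by
    rw [← Module.finrank_eq_card_basis e, Module.finrank_fin_fun]
  let e' : Module.Basis (Fin n) k (Fin n → k) := e.reindex (Fintype.equivFinOfCardEq hcard)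
  let P : GLk := ⟨e'.toMatrix (Pi.basisFun k (Fin n)), (Pi.basisFun k (Fin n)).toMatrix e',
    e'.toMatrix_mul_toMatrix_flip _, (Pi.basisFun k (Fin n)).toMatrix_mul_toMatrix_flip _⟩
  refine ⟨P, fun s hs a c hac => ?_⟩
  show (e'.toMatrix (Pi.basisFun k (Fin n)) * (s : Matrix (Fin n) (Fin n) k) *
    (Pi.basisFun k (Fin n)).toMatrix e') a c = 0
  have key : e'.toMatrix (Pi.basisFun k (Fin n)) * (s : Matrix (Fin n) (Fin n) k) *
      (Pi.basisFun k (Fin n)).toMatrix e' = LinearMap.toMatrix e' e' (f ⟨s, hs⟩) := by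
    rw [← basis_toMatrix_mul_linearMap_toMatrix_mul_basis_toMatrix e' (Pi.basisFun k (Fin n)) e'
      (Pi.basisFun k (Fin n))]
    congr 2
    rw [LinearMap.toMatrix_eq_toMatrix']
    exact (LinearMap.toMatrix'_toLin' _).symm
  rw [key, LinearMap.toMatrix_apply]
  have hmem : e' c ∈ b := by
    simp [e', e]
  obtain ⟨μ, hμ⟩ := hbB hmem ⟨s, hs⟩
  rw [hμ, map_smul, Module.Basis.repr_self, Finsupp.smul_single, smul_eq_mul, mul_one,
    Finsupp.single_eq_of_ne hac]

end Groth.Agent.MatGrp21
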