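import Groth.Agent.Lib.MatGrp21.Tri

/-!
# Torsion elements of closed triangular groups: lifting and conjugacy
-/

set_option autoImplicit false
universe u

open Finset

noncomputable section

namespace Groth.Agent.MatGrp21

variable {k : Type u} [Field k] {n : ℕ}

local notation "GLk" => GL (Fin n) k
local notation "UP" => (upper : Subgroup (GL (Fin n) k))
local notation "LAY" => (lay : ℕ → Subgroup (GL (Fin n) k))

variable {K : Subgroup (GL (Fin n) k)}

theorem isClosed_inf {A B : Subgroup GLk} (hA : IsClosed (A : Set GLk)) (hB : IsClosed (B : Set GLk)) :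
    IsClosed ((A ⊓ B : Subgroup GLk) : Set GLk) :=
  hA.inter hB

theorem phi_one (i : ℕ) (hi : 1 ≤ i) : phi i (1 : GLk) = 0 :=
  (phi_eq_zero_iff hi (LAY i).one_mem).2 (LAY (i + 1)).one_mem

theorem phi_inv {i : ℕ} (hi : 1 ≤ i) {g : GLk} (hg : g ∈ LAY i) : phi i g⁻¹ = -phi i g := by
  have := phi_mul hi ((LAY i).inv_mem hg) hg
  rw [inv_mul_cancel, phi_one i hi] at this
  exact eq_neg_of_add_eq_zero_left this.symm

theorem phi_pow {i : ℕ} (hi : 1 ≤ i) {g : GLk} (hg : g ∈ LAY i) (m : ℕ) : phi i (g ^ m) = (m : k) • phi i g := by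
  induction m with
  | zero => rw [pow_zero, phi_one i hi, Nat.cast_zero, zero_smul]
  | succ m ih => rw [pow_succ, phi_mul hi ((LAY i).pow_mem hg m) hg, ih, Nat.cast_succ, add_smul, one_smul]

/-- The superdiagonal values taken by a subgroup on a layer. -/
def layImage (K : Subgroup GLk) {i : ℕ} (hi : 1 ≤ i) : AddSubgroup (Fin n → k) where
  carrier := {x | ∃ v ∈ K ⊓ LAY i, phi i v = x}
  zero_mem' := ⟨1, Subgroup.one_mem _, phi_one i hi⟩
  add_mem' := by
    rintro _ _ ⟨v, hv, rfl⟩ ⟨w, hw, rfl⟩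
    exact ⟨v * w, Subgroup.mul_mem _ hv hw, phi_mul hi hv.2 hw.2⟩
  neg_mem' := by
    rintro _ ⟨v, hv, rfl⟩
    exact ⟨v⁻¹, Subgroup.inv_mem _ hv, phi_inv hi hv.2⟩

/-- One step: kill the component of a torsion deviation in one layer. -/
theorem exists_step (hK : IsClosed (K : Set GLk)) {i : ℕ} (hi : 1 ≤ i) {s : GLk} (hs : s ∈ UP)
    (hsK : ∀ g ∈ K, s⁻¹ * g * s ∈ K) {L : ℕ} (hL : (L : k) ≠ 0) (hsL : s ^ L = 1)
    {w : GLk} (hw : w ∈ K ⊓ LAY i) (hwL : (s * w) ^ L = 1) :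
    ∃ v ∈ K ⊓ LAY i, ∃ w' ∈ K ⊓ LAY (i + 1), v * (s * w) * v⁻¹ = s * w' := by
  set x := phi i w with hx
  set c := scal i s⁻¹ with hc
  have hconj : ∀ g ∈ K ⊓ LAY i, s⁻¹ * g * s ∈ K ⊓ LAY i ∧ phi i (s⁻¹ * g * s) = c * phi i g := fun g hg => by
    have h1 := conj_mem_lay ((UP).inv_mem hs) hg.2
    have h2 := phi_conj hi ((UP).inv_mem hs) hg.2
    rw [inv_inv] at h1 h2
    exact ⟨⟨hsK g hg.1, h1⟩, h2⟩
  have hr : ∀ m : ℕ, ∃ r ∈ K ⊓ LAY i, (s * w) ^ m = s ^ m * r ∧ phi i r = ∑ j ∈ range m, c ^ j * x := by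
    intro m
    induction m with
    | zero => exact ⟨1, Subgroup.one_mem _, by simp, by simp [phi_one i hi]⟩
    | succ m ih =>
      obtain ⟨r, hr, hpow, hphi⟩ := ih
      refine ⟨(s⁻¹ * r * s) * w, Subgroup.mul_mem _ (hconj r hr).1 hw, ?_, ?_⟩
      · rw [pow_succ, hpow, pow_succ]
        group
      · rw [phi_mul hi (hconj r hr).1.2 hw.2, (hconj r hr).2, hphi, Finset.sum_range_succ' _ m, Finset.mul_sum]
        simp only [pow_succ, pow_zero, one_mul]
        congr 1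
        exact Finset.sum_congr rfl fun j _ => by ring
  obtain ⟨r, -, hpow, hphi⟩ := hr L
  rw [hwL, hsL, one_mul] at hpow
  rw [← hpow, phi_one i hi] at hphi
  set y := ∑ j ∈ range L, ((L - 1 - j : ℕ) : k) • (c ^ j * x) with hy
  have hyA : y ∈ layImage K hi := AddSubgroup.sum_mem _ fun j hj => by
    rw [Nat.cast_smul_eq_nsmul k]
    refine AddSubgroup.nsmul_mem _ ?_ _
    clear hj
    induction j with
    | zero => exact ⟨w, hw, by simp [hx]⟩
    | succ j ih =>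
      obtain ⟨v, hv, hvx⟩ := ih
      exact ⟨s⁻¹ * v * s, (hconj v hv).1, by rw [(hconj v hv).2, hvx, pow_succ]; ring⟩
  obtain ⟨v0, hv0, hv0y⟩ := hyA
  obtain ⟨v, hvK, -, hvL⟩ := exists_root (isClosed_inf hK (isClosed_lay i)) hv0
    (isUnip_of_mem_lay (lay_anti hi hv0.2)) hL
  refine ⟨v, hvK, (s⁻¹ * v * s) * w * v⁻¹, ?_, by group⟩
  have hmem : (s⁻¹ * v * s) * w * v⁻¹ ∈ K ⊓ LAY i :=
    Subgroup.mul_mem _ (Subgroup.mul_mem _ (hconj v hvK).1 hw) (Subgroup.inv_mem _ hvK)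
  refine ⟨hmem.1, (phi_eq_zero_iff hi hmem.2).1 ?_⟩
  rw [phi_mul hi (Subgroup.mul_mem _ (hconj v hvK).1 hw).2 ((LAY i).inv_mem hvK.2),
    phi_mul hi (hconj v hvK).1.2 hw.2, (hconj v hvK).2, phi_inv hi hvK.2]
  have hLv : (L : k) • phi i v = y := by rw [← hv0y, ← hvL, phi_pow hi hvK.2]
  funext a
  have h1 := congrFun hLv a
  have h2 := congrFun hphi a
  simp only [hy, Pi.smul_apply, smul_eq_mul, Finset.sum_apply, Pi.mul_apply, Pi.pow_apply, Pi.zero_apply] at h1 h2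
  simp only [Pi.add_apply, Pi.mul_apply, Pi.neg_apply, Pi.zero_apply]
  have key : ∀ m : ℕ, (c a - 1) * ∑ j ∈ range m, ((m - 1 - j : ℕ) : k) * (c a ^ j * x a) =
      (∑ j ∈ range m, c a ^ j * x a) - (m : k) * x a := by
    intro m
    induction m with
    | zero => simp
    | succ m ih =>
      have e : ∑ j ∈ range (m + 1), ((m + 1 - 1 - j : ℕ) : k) * (c a ^ j * x a) =
          (∑ j ∈ range m, ((m - 1 - j : ℕ) : k) * (c a ^ j * x a)) + ∑ j ∈ range m, c a ^ j * x a := by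
        rw [Finset.sum_range_succ, show (m + 1 - 1 - m : ℕ) = 0 by omega, Nat.cast_zero, zero_mul, add_zero,
          ← Finset.sum_add_distrib]
        refine Finset.sum_congr rfl fun j hj => ?_
        have : j < m := Finset.mem_range.1 hj
        rw [show m + 1 - 1 - j = (m - 1 - j) + 1 by omega, Nat.cast_succ]
        ring
      rw [e, mul_add, ih, Finset.sum_range_succ (fun j => c a ^ j * x a), Nat.cast_succ]
      have hgeom : (c a - 1) * ∑ j ∈ range m, c a ^ j * x a = (c a ^ m - 1) * x a := by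
        rw [← geom_sum_mul (c a) m, Finset.mul_sum, Finset.sum_mul, Finset.sum_mul]
        exact Finset.sum_congr rfl fun j _ => by ring
      linear_combination hgeom
  have h3 := key L
  rw [← h1, ← h2] at h3
  have hz : (L : k) * (c a * phi i v a + x a + -phi i v a) = 0 := by linear_combination h3
  exact (mul_eq_zero.1 hz).resolve_left hL

/-- Two torsion elements differing by a unipotent element are conjugate under the unipotent part. -/
theorem exists_conj (hK : IsClosed (K : Set GLk)) {s : GLk} (hs : s ∈ UP) (hsK : ∀ g ∈ K, s⁻¹ * g * s ∈ K)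
    {L : ℕ} (hL : (L : k) ≠ 0) (hsL : s ^ L = 1) {w : GLk} (hw : w ∈ K ⊓ LAY 1) (hwL : (s * w) ^ L = 1) :
    ∃ v ∈ K ⊓ LAY 1, v * (s * w) * v⁻¹ = s := by
  suffices h : ∀ i, ∃ v ∈ K ⊓ LAY 1, ∃ w' ∈ K ⊓ LAY (i + 1), v * (s * w) * v⁻¹ = s * w' by
    obtain ⟨v, hv, w', hw', e⟩ := h n
    rw [lay_eq_bot (Nat.le_succ n), inf_bot_eq, Subgroup.mem_bot] at hw'
    exact ⟨v, hv, by rw [e, hw', mul_one]⟩
  intro i
  induction i with
  | zero => exact ⟨1, Subgroup.one_mem _, w, hw, by group⟩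
  | succ i ih =>
    obtain ⟨v, hv, w', hw', e⟩ := ih
    have hL' : (s * w') ^ L = 1 := by rw [← e, conj_pow, hwL, mul_one, mul_inv_cancel]
    obtain ⟨v', hv', w'', hw'', e'⟩ := exists_step hK (Nat.le_add_left 1 i) hs hsK hL hsL hw' hL'
    refine ⟨v' * v, Subgroup.mul_mem _ ⟨hv'.1, lay_anti (Nat.le_add_left 1 i) hv'.2⟩ hv, w'', hw'', ?_⟩
    rw [← e', ← e]
    group

/-- A torsion value of the diagonal is the diagonal of a torsion element. -/
theorem exists_torsion_lift (hK : IsClosed (K : Set GLk)) {m : GLk} (hm : m ∈ K) (hmu : m ∈ UP) {L : ℕ}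
    (hL : (L : k) ≠ 0) (hd : m ^ L ∈ LAY 1) : ∃ w ∈ K ⊓ LAY 1, (m * w) ^ L = 1 ∧ Commute m w := by
  have hKl := isClosed_inf hK (isClosed_lay (k := k) (n := n) 1)
  obtain ⟨r, hr, hru, hrL⟩ := exists_root hKl ⟨K.pow_mem hm L, hd⟩ (isUnip_of_mem_lay hd) hL
  have hcomm : Commute m r := by
    have h : m * r * m⁻¹ = r := root_unique (hru.conj m) hru hL (by
      rw [conj_pow, hrL, ← pow_succ', pow_succ, mul_inv_cancel_right])
    show m * r = r * m
    conv_rhs => rw [← h, inv_mul_cancel_right]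
  refine ⟨r⁻¹, Subgroup.inv_mem _ hr, ?_, hcomm.inv_right⟩
  rw [hcomm.inv_right.mul_pow, inv_pow, hrL, mul_inv_cancel]

theorem commutator_mem_lay {s m : GLk} (hs : s ∈ UP) (hm : m ∈ UP) : s⁻¹ * m⁻¹ * s * m ∈ LAY 1 := by
  have hsm := (UP).mul_mem ((UP).mul_mem ((UP).inv_mem hs) ((UP).inv_mem hm)) hs
  refine mem_lay_one_iff.2 ⟨(UP).mul_mem hsm hm, fun a => ?_⟩
  rw [diag_mul hsm hm, diag_mul ((UP).mul_mem ((UP).inv_mem hs) ((UP).inv_mem hm)) hs,
    diag_mul ((UP).inv_mem hs) ((UP).inv_mem hm)]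
  have h1 := diag_mul ((UP).inv_mem hs) hs a
  have h2 := diag_mul ((UP).inv_mem hm) hm a
  rw [inv_mul_cancel, Units.val_one, Matrix.one_apply_eq] at h1 h2
  rw [mul_right_comm (((s⁻¹ : GLk) : Matrix (Fin n) (Fin n) k) a a), mul_assoc, ← h1, ← h2, one_mul]

/-- Centralisers of finite sets of commuting torsion elements surject onto the diagonal part. -/
theorem exists_mem_centralizer (hK : IsClosed (K : Set GLk)) (hKu : K ≤ UP) (S : Finset GLk)
    (hSK : ∀ s ∈ S, s ∈ K) (hS : ∀ s ∈ S, ∀ t ∈ S, Commute s t) (hSt : ∀ s ∈ S, ∃ L : ℕ, (L : k) ≠ 0 ∧ s ^ L = 1)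
    {m : GLk} (hm : m ∈ K) : ∃ v ∈ K ⊓ LAY 1, m * v ∈ Subgroup.centralizer (S : Set GLk) := by
  classical
  induction S using Finset.induction_on with
  | empty => exact ⟨1, Subgroup.one_mem _, Subgroup.mem_centralizer_iff.2 (by simp)⟩
  | insert s S _ ih =>
    obtain ⟨v, hv, hmv⟩ := ih (fun t ht => hSK t (mem_insert_of_mem ht))
      (fun a ha b hb => hS a (mem_insert_of_mem ha) b (mem_insert_of_mem hb))
      (fun t ht => hSt t (mem_insert_of_mem ht))
    set K' := K ⊓ Subgroup.centralizer (S : Set GLk) with hK'def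
    have hK' : IsClosed (K' : Set GLk) := isClosed_inf hK (isClosed_centralizer _)
    have hsK' : s ∈ K' := ⟨hSK s (mem_insert_self _ _), Subgroup.mem_centralizer_iff.2 fun t ht =>
      hS t (mem_insert_of_mem ht) s (mem_insert_self _ _)⟩
    have hmK' : m * v ∈ K' := ⟨K.mul_mem hm hv.1, hmv⟩
    set w := s⁻¹ * (m * v)⁻¹ * s * (m * v) with hw
    have hwK : w ∈ K' ⊓ LAY 1 :=
      ⟨K'.mul_mem (K'.mul_mem (K'.mul_mem (K'.inv_mem hsK') (K'.inv_mem hmK')) hsK') hmK',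
        commutator_mem_lay (hKu hsK'.1) (hKu hmK'.1)⟩
    obtain ⟨L, hL, hsL⟩ := hSt s (mem_insert_self _ _)
    have hsw : s * w = (m * v)⁻¹ * s * (m * v) := by rw [hw]; group
    obtain ⟨v', hv', e⟩ := exists_conj hK' (hKu hsK'.1)
      (fun g hg => K'.mul_mem (K'.mul_mem (K'.inv_mem hsK') hg) hsK') hL hsL hwK
      (by
        have h := conj_pow (a := (m * v)⁻¹) (b := s) (i := L)
        rw [inv_inv, hsL, mul_one, inv_mul_cancel] at h
        rw [hsw, h])
    refine ⟨v * v'⁻¹, Subgroup.mul_mem _ hv ⟨(K'.inv_mem hv'.1).1, (LAY 1).inv_mem hv'.2⟩,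
      Subgroup.mem_centralizer_iff.2 fun t ht => ?_⟩
    rw [show m * (v * v'⁻¹) = m * v * v'⁻¹ from (mul_assoc _ _ _).symm]
    rcases Finset.mem_insert.1 (Finset.mem_coe.1 ht) with rfl | ht'
    · rw [hsw] at e
      have e2 : (m * v * v'⁻¹)⁻¹ * t * (m * v * v'⁻¹) = t := by
        conv_rhs => rw [← e]
        group
      exact inv_mul_eq_iff_eq_mul.1 (by rw [← mul_assoc]; exact e2)
    · exact Subgroup.mem_centralizer_iff.1 (K'.mul_mem hmK' (K'.inv_mem hv'.1)).2 t ht'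

/-- Commuting torsion elements are conjugate into a commutative closed complement of the unipotent part. -/
theorem exists_conj_mem (hK : IsClosed (K : Set GLk)) (hKu : K ≤ UP) {T : Subgroup GLk}
    (hT : IsClosed (T : Set GLk)) (hTK : T ≤ K) (hTc : ∀ a ∈ T, ∀ b ∈ T, Commute a b)
    (hT1 : T ⊓ LAY 1 = ⊥) (hTs : ∀ m ∈ K, ∃ t ∈ T, t⁻¹ * m ∈ LAY 1) (S : Set GLk) (hSK : ∀ s ∈ S, s ∈ K)
    (hS : ∀ s ∈ S, ∀ t ∈ S, Commute s t) (hSt : ∀ s ∈ S, ∃ L : ℕ, (L : k) ≠ 0 ∧ s ^ L = 1) :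
    ∃ u ∈ K ⊓ LAY 1, ∀ s ∈ S, u * s * u⁻¹ ∈ T := by
  classical
  have hfin : ∀ F : Finset GLk, (∀ s ∈ F, s ∈ S) → ∃ u ∈ K ⊓ LAY 1, ∀ s ∈ F, u * s * u⁻¹ ∈ T := by
    intro F
    induction F using Finset.induction_on with
    | empty => exact fun _ => ⟨1, Subgroup.one_mem _, by simp⟩
    | insert s F _ ih =>
      intro hF
      obtain ⟨u, hu, hut⟩ := ih fun t ht => hF t (mem_insert_of_mem ht)
      set S1 : Set GLk := (fun t => u * t * u⁻¹) '' (F : Set GLk) with hS1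
      set K' := K ⊓ Subgroup.centralizer S1 with hK'def
      have hK' : IsClosed (K' : Set GLk) := isClosed_inf hK (isClosed_centralizer _)
      have hTK' : T ≤ K' := fun t ht => ⟨hTK ht, Subgroup.mem_centralizer_iff.2 (by
        rintro _ ⟨b, hb, rfl⟩
        exact hTc _ (hut b hb) _ ht)⟩
      set s1 := u * s * u⁻¹ with hs1
      have hs1K : s1 ∈ K' := ⟨K.mul_mem (K.mul_mem hu.1 (hSK s (hF s (mem_insert_self _ _)))) (K.inv_mem hu.1),
        Subgroup.mem_centralizer_iff.2 (by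
          rintro _ ⟨b, hb, rfl⟩
          exact (hS b (hF b (mem_insert_of_mem hb)) s (hF s (mem_insert_self _ _))).map (MulAut.conj u).toMonoidHom)⟩
      obtain ⟨t, ht, htw⟩ := hTs s1 hs1K.1
      obtain ⟨L, hL, hsL⟩ := hSt s (hF s (mem_insert_self _ _))
      have hs1L : s1 ^ L = 1 := by rw [hs1, conj_pow, hsL, mul_one, mul_inv_cancel]
      have htL : t ^ L = 1 := by
        rw [← Subgroup.mem_bot, ← hT1]
        refine ⟨T.pow_mem ht L, mem_lay_one_iff.2 ⟨hKu (hTK (T.pow_mem ht L)), fun a => ?_⟩⟩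
        have hpow : ∀ (g : GLk), g ∈ UP → ∀ m : ℕ, ((g ^ m : GLk) : Matrix (Fin n) (Fin n) k) a a =
            (g : Matrix (Fin n) (Fin n) k) a a ^ m := by
          intro g hg m
          induction m with
          | zero => simp
          | succ m ih => rw [pow_succ, diag_mul ((UP).pow_mem hg m) hg, ih, pow_succ]
        have hd : (t : Matrix (Fin n) (Fin n) k) a a = (s1 : Matrix (Fin n) (Fin n) k) a a := by
          have h := diag_mul (hKu (hTK ht)) htw.1 a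
          rw [mul_inv_cancel_left, (mem_lay_one_iff.1 htw).2 a, mul_one] at h
          exact h.symm
        rw [hpow t (hKu (hTK ht)), hd, ← hpow s1 (hKu hs1K.1), hs1L, Units.val_one, Matrix.one_apply_eq]
      obtain ⟨v, hv, e⟩ := exists_conj hK' (hKu (hTK ht))
        (fun g hg => K'.mul_mem (K'.mul_mem (K'.inv_mem (hTK' ht)) hg) (hTK' ht)) hL htL
        (w := t⁻¹ * s1) ⟨K'.mul_mem (K'.inv_mem (hTK' ht)) hs1K, htw⟩ (by rw [mul_inv_cancel_left, hs1L])
      rw [mul_inv_cancel_left] at e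
      refine ⟨v * u, Subgroup.mul_mem _ ⟨hv.1.1, hv.2⟩ hu, fun b hb => ?_⟩
      rw [mul_inv_rev, show v * u * b * (u⁻¹ * v⁻¹) = v * (u * b * u⁻¹) * v⁻¹ by group]
      rcases Finset.mem_insert.1 hb with rfl | hb'
      · rw [← hs1, e]; exact ht
      · rw [← Subgroup.mem_centralizer_iff.1 hv.1.2 _ ⟨b, hb', rfl⟩, mul_inv_cancel_right]
        exact hut b hb'
  let A : S → Set GLk := fun s => {u | u ∈ K ⊓ LAY 1 ∧ u * s * u⁻¹ ∈ T}
  obtain ⟨F, hF⟩ := exists_finset_iInter A fun s =>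
    (isClosed_inf hK (isClosed_lay 1)).inter (hT.preimage (continuous_conjugate _))
  obtain ⟨u, hu, hut⟩ := hfin (F.image Subtype.val) fun s hs => by
    obtain ⟨b, -, rfl⟩ := Finset.mem_image.1 hs
    exact b.2
  refine ⟨u, hu, fun s hs => (hF ⟨s, hs⟩ ?_).2⟩
  simp only [Set.mem_iInter]
  exact fun b hb => ⟨hu, hut _ (Finset.mem_image_of_mem _ hb)⟩

end Groth.Agent.MatGrp21
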