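import Groth.Agent.Lib.MatGrp21.Tri
import Groth.Agent.Lib.MatGrp21.Chars
import Mathlib.RingTheory.Spectrum.Prime.Chevalley
import Mathlib.RingTheory.Jacobson.Ring
import Mathlib.RingTheory.FinitePresentation
import Mathlib.FieldTheory.IsAlgClosed.Basic

/-!
# The diagonal values of an irreducible triangular group
-/

set_option autoImplicit false
universe u

noncomputable section

namespace Groth.Agent.MatGrp21

variable {k : Type u} [Field k] {n : ℕ}

local notation "GLk" => GL (Fin n) k
local notation "Mat" => Matrix (Fin n) (Fin n) k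

/-- The diagonal of an upper triangular matrix as a point of the split torus. -/
def diagU : (upper : Subgroup (GL (Fin n) k)) →* (Fin n → kˣ) where
  toFun g a := Units.mk0 ((g.1 : Mat) a a) (diag_ne_zero g.2 a)
  map_one' := funext fun a => Units.ext (by simp)
  map_mul' g h := funext fun a => Units.ext (by simpa using diag_mul g.2 h.2 a)

/-- The diagonal on a triangular subgroup. -/
def diagOn {M : Subgroup (GL (Fin n) k)} (hM : M ≤ upper) : M →* (Fin n → kˣ) :=
  diagU.comp (Subgroup.inclusion hM)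

theorem diagOn_apply {M : Subgroup (GL (Fin n) k)} (hM : M ≤ upper) (g : M) (a : Fin n) :
    (diagOn hM g a : k) = (g.1 : Mat) a a := rfl

theorem isReg_monomial {e : GLk → (Fin n → kˣ)} (M : Set GLk)
    (he : ∀ i, ∃ F F' : GLk → k, IsReg F ∧ IsReg F' ∧ ∀ g ∈ M, F g = (e g i : k) ∧ F' g = ((e g i)⁻¹ : kˣ))
    (a : Fin n → ℤ) : ∃ F : GLk → k, IsReg F ∧ ∀ g ∈ M, F g = ((Additive.toMul (pw (e g) a) : kˣ) : k) := by
  classical
  let S : AddSubmonoid (Fin n → ℤ) :=
    { carrier := {a | ∃ F : GLk → k, IsReg F ∧ ∀ g ∈ M, F g = ((Additive.toMul (pw (e g) a) : kˣ) : k)}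
      zero_mem' := ⟨fun _ => 1, isReg_const 1, fun g _ => by simp⟩
      add_mem' := by
        rintro a b ⟨F, hF, hFv⟩ ⟨F', hF', hFv'⟩
        exact ⟨fun g => F g * F' g, hF.mul hF', fun g hg => by simp [hFv g hg, hFv' g hg]⟩ }
  have h : ∀ (i : Fin n) (m : ℤ), Pi.single i m ∈ S := fun i m => by
    obtain ⟨F, F', hF, hF', hv⟩ := he i
    have e1 : (Pi.single i m : Fin n → ℤ) = m • Pi.single i 1 := by
      rw [← Pi.single_smul, smul_eq_mul, mul_one]
    rcases Int.eq_nat_or_neg m with ⟨j, rfl | rfl⟩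
    · refine ⟨fun g => F g ^ j, hF.pow j, fun g hg => ?_⟩
      beta_reduce
      rw [e1, map_zsmul, pw_single, (hv g hg).1]
      simp
    · refine ⟨fun g => F' g ^ j, hF'.pow j, fun g hg => ?_⟩
      beta_reduce
      rw [e1, map_zsmul, pw_single, (hv g hg).2]
      simp
  have : a ∈ S := by
    rw [← Finset.univ_sum_single a]
    exact AddSubmonoid.sum_mem S fun i _ => h i (a i)
  exact this

set_option maxHeartbeats 1000000 in
/-- Every point satisfying the relations of the diagonal of an irreducible closed triangular group is a diagonal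
value. -/
theorem exists_diag [IsAlgClosed k] {M : Subgroup (GL (Fin n) k)} (hM : M ≤ upper)
    (hcl : IsClosed (M : Set (GL (Fin n) k))) (hirr : IsPreirreducible (M : Set (GL (Fin n) k)))
    (δ : Fin n → kˣ) (hδ : ∀ a ∈ rel (diagOn hM), pw δ a = 0) : ∃ g : M, diagOn hM g = δ := by
  classical
  let entF : Fin n × Fin n → (M → k) := fun p g => ent g.1 p
  let detF : M → k := fun g => (g.1 : Mat).det⁻¹
  let s : Set (M → k) := Set.range entF ∪ {detF}
  let R := Algebra.adjoin k s
  haveI : Algebra.FiniteType k R := (Subalgebra.fg_iff_finiteType _).1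
    (Subalgebra.fg_def.2 ⟨s, (Set.finite_range _).union (Set.finite_singleton _), rfl⟩)
  have hpoly : ∀ p : MvPolynomial (Fin n × Fin n) k, (fun g : M => MvPolynomial.eval (ent g.1) p) ∈ R := fun p => by
    induction p using MvPolynomial.induction_on with
    | C c =>
      simp only [MvPolynomial.eval_C]
      exact R.algebraMap_mem c
    | add p q hp hq =>
      simp only [map_add]
      exact R.add_mem hp hq
    | mul_X p x hp =>
      simp only [map_mul, MvPolynomial.eval_X]
      exact R.mul_mem hp (Algebra.subset_adjoin (Or.inl ⟨x, rfl⟩))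
  have hregR : ∀ F : GLk → k, IsReg F → (fun g : M => F g.1) ∈ R := by
    rintro F ⟨p, N, hp⟩
    have : (fun g : M => F g.1) = (fun g : M => MvPolynomial.eval (ent g.1) p) * detF ^ N := by
      funext g
      simp only [Pi.mul_apply, Pi.pow_apply, detF, ← hp g.1, mul_assoc, ← mul_pow, mul_inv_cancel₀ (det_ne_zero g.1),
        one_pow, mul_one]
    rw [this]
    exact R.mul_mem (hpoly p) (R.pow_mem (Algebra.subset_adjoin (Or.inr rfl)) N)
  have hdetreg : IsReg fun g : GLk => (g : Mat).det⁻¹ :=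
    ⟨1, 1, fun g => by rw [map_one, pow_one, inv_mul_cancel₀ (det_ne_zero g)]⟩
  have hRreg : ∀ x ∈ R, ∃ F : GLk → k, IsReg F ∧ ∀ g : M, x g = F g.1 := fun x hx => by
    induction hx using Algebra.adjoin_induction with
    | mem x hx =>
      rcases hx with ⟨p, rfl⟩ | rfl
      · exact ⟨_, isReg_entry p.1 p.2, fun g => rfl⟩
      · exact ⟨_, hdetreg, fun g => rfl⟩
    | algebraMap c => exact ⟨_, isReg_const c, fun g => rfl⟩
    | add x y _ _ hx hy =>
      obtain ⟨F, hF, hFx⟩ := hx
      obtain ⟨F', hF', hFy⟩ := hy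
      exact ⟨_, hF.add hF', fun g => by simp [hFx, hFy]⟩
    | mul x y _ _ hx hy =>
      obtain ⟨F, hF, hFx⟩ := hx
      obtain ⟨F', hF', hFy⟩ := hy
      exact ⟨_, hF.mul hF', fun g => by simp [hFx, hFy]⟩
  haveI : Nontrivial R := ⟨⟨0, 1, fun h => zero_ne_one
    (congrFun (congrArg Subtype.val h) (1 : M) : (0 : k) = 1)⟩⟩
  haveI : NoZeroDivisors R := ⟨fun {x y} hxy => by
    obtain ⟨F, hF, hFx⟩ := hRreg x x.2
    obtain ⟨F', hF', hFy⟩ := hRreg y y.2
    have hsub : (M : Set GLk) ⊆ {g | F g = 0} ∪ {g | F' g = 0} := fun g hg => by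
      have := congrFun (congrArg Subtype.val hxy) ⟨g, hg⟩
      simp only [Subalgebra.coe_mul, Pi.mul_apply, hFx, hFy, ZeroMemClass.coe_zero, Pi.zero_apply, mul_eq_zero] at this
      exact this
    rcases isPreirreducible_iff_isClosed_union_isClosed.1 hirr _ _ (isClosed_eq hF (isReg_const 0))
      (isClosed_eq hF' (isReg_const 0)) hsub with h | h
    · exact Or.inl (Subtype.ext (funext fun g => by rw [hFx]; exact h g.2))
    · exact Or.inr (Subtype.ext (funext fun g => by rw [hFy]; exact h g.2))⟩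
  haveI : IsDomain R := NoZeroDivisors.to_isDomain R
  -- the map from the group algebra of the characters
  let ev : ∀ δ : Fin n → kˣ, (∀ a ∈ rel (diagOn hM), pw δ a = 0) → (AddMonoidAlgebra k ((Fin n → ℤ) ⧸ rel (diagOn hM)) →ₐ[k] k) := fun δ hδ =>
    AddMonoidAlgebra.lift k k ((Fin n → ℤ) ⧸ rel (diagOn hM)) (chr (diagOn hM) δ hδ)
  have hin : ∀ g : M, ∀ a ∈ rel (diagOn hM), pw (diagOn hM g) a = 0 := fun g _ ha => (mem_rel _).1 ha g
  let f0 : AddMonoidAlgebra k ((Fin n → ℤ) ⧸ rel (diagOn hM)) →ₐ[k] (M → k) := Pi.algHom _ _ fun g => ev (diagOn hM g) (hin g)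
  have hf0 : ∀ x, f0 x ∈ R := fun x => by
    induction x using AddMonoidAlgebra.induction_linear with
    | zero => rw [map_zero]; exact R.zero_mem
    | add x y hx hy => rw [map_add]; exact R.add_mem hx hy
    | single q c =>
      obtain ⟨a, rfl⟩ := QuotientAddGroup.mk_surjective q
      obtain ⟨F, hF, hFv⟩ := isReg_monomial (e := fun g : GLk => if h : g ∈ upper then diagU ⟨g, h⟩ else 1) (M : Set GLk)
        (fun i => ⟨fun g : GLk => (g : Mat) i i, fun g : GLk => ((g⁻¹ : GLk) : Mat) i i, isReg_entry i i,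
          isReg_inv_entry i i, fun g hg => by
            rw [dif_pos (hM hg)]
            refine ⟨rfl, ?_⟩
            have := diag_mul ((upper : Subgroup GLk).inv_mem (hM hg)) (hM hg) i
            rw [inv_mul_cancel, Units.val_one, Matrix.one_apply_eq] at this
            rw [Units.val_inv_eq_inv_val]
            exact eq_inv_of_mul_eq_one_left this.symm⟩) a
      have : f0 (AddMonoidAlgebra.single (QuotientAddGroup.mk a) c) = fun g : M => c * F g.1 := by
        funext g
        show ev (diagOn hM g) (hin g) _ = _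
        rw [AddMonoidAlgebra.lift_single, smul_eq_mul, chr_mk, hFv g.1 g.2, dif_pos (hM g.2)]
        rfl
      rw [this]
      exact hregR _ ((isReg_const c).mul hF)
  let f : AddMonoidAlgebra k ((Fin n → ℤ) ⧸ rel (diagOn hM)) →ₐ[k] R := f0.codRestrict R hf0
  have hfg : ∀ x (g : M), (f x : M → k) g = ev (diagOn hM g) (hin g) x := fun x g => rfl
  have hfinj : Function.Injective f := (injective_iff_map_eq_zero f).2 fun x hx =>
    eq_zero_of_lift (diagOn hM) x fun g => by rw [← hfg x g, hx]; rfl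
  haveI : Algebra.FiniteType k (AddMonoidAlgebra k ((Fin n → ℤ) ⧸ rel (diagOn hM))) := by
    haveI : AddMonoid.FG ((Fin n → ℤ) ⧸ rel (diagOn hM)) :=
      AddMonoid.fg_of_surjective (QuotientAddGroup.mk' (rel (diagOn hM))) (QuotientAddGroup.mk'_surjective _)
    infer_instance
  haveI : IsNoetherianRing (AddMonoidAlgebra k ((Fin n → ℤ) ⧸ rel (diagOn hM))) := Algebra.FiniteType.isNoetherianRing k _
  have hfp : f.toRingHom.FinitePresentation := RingHom.FinitePresentation.of_finiteType.1
    (RingHom.FiniteType.of_comp_finiteType (f := algebraMap k _) (g := f.toRingHom) (by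
      rw [AlgHom.toRingHom_eq_coe, AlgHom.comp_algebraMap]
      exact RingHom.finiteType_algebraMap.2 inferInstance))
  obtain ⟨b, hb, hbr⟩ : ∃ b : AddMonoidAlgebra k ((Fin n → ℤ) ⧸ rel (diagOn hM)), b ≠ 0 ∧
      (PrimeSpectrum.basicOpen b : Set (PrimeSpectrum (AddMonoidAlgebra k ((Fin n → ℤ) ⧸ rel (diagOn hM))))) ⊆
        Set.range (PrimeSpectrum.comap f.toRingHom) := by
    haveI : IsDomain (AddMonoidAlgebra k ((Fin n → ℤ) ⧸ rel (diagOn hM))) := Function.Injective.isDomain f.toRingHom hfinj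
    obtain ⟨S, hS⟩ := PrimeSpectrum.exists_constructibleSetData_iff.2 (PrimeSpectrum.isConstructible_range_comap hfp)
    have hbot : (⟨⊥, Ideal.isPrime_bot⟩ : PrimeSpectrum (AddMonoidAlgebra k ((Fin n → ℤ) ⧸ rel (diagOn hM)))) ∈
        Set.range (PrimeSpectrum.comap f.toRingHom) :=
      ⟨⟨⊥, Ideal.isPrime_bot⟩, PrimeSpectrum.ext (Ideal.comap_bot_of_injective _ hfinj)⟩
    rw [← hS] at hbot ⊢
    simp only [PrimeSpectrum.ConstructibleSetData.toSet, Finset.mem_coe, Set.mem_iUnion, Set.mem_sdiff,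
      PrimeSpectrum.mem_zeroLocus, Set.range_subset_iff, SetLike.mem_coe, Ideal.mem_bot, exists_prop] at hbot
    obtain ⟨C, hC, hC1, hC2⟩ := hbot
    refine ⟨C.f, fun h => hC2 (by simp [h]), fun x hx => ?_⟩
    simp only [PrimeSpectrum.ConstructibleSetData.toSet, Finset.mem_coe, Set.mem_iUnion, Set.mem_sdiff,
      PrimeSpectrum.mem_zeroLocus, Set.range_subset_iff, exists_prop]
    exact ⟨C, hC, fun i hi => by
      simp_all
      exact hi.2 ▸ x.asIdeal.zero_mem, fun h => hx (h (Set.mem_singleton _))⟩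
  -- the translated reflection of `b`
  let refl : AddMonoidAlgebra k ((Fin n → ℤ) ⧸ rel (diagOn hM)) →ₐ[k] AddMonoidAlgebra k ((Fin n → ℤ) ⧸ rel (diagOn hM)) := AddMonoidAlgebra.lift k _ ((Fin n → ℤ) ⧸ rel (diagOn hM))
    { toFun := fun q => AddMonoidAlgebra.single (-q.toAdd) (chr (diagOn hM) δ hδ q)
      map_one' := by rw [toAdd_one, neg_zero, map_one]; rfl
      map_mul' := fun q q' => by rw [toAdd_mul, neg_add, map_mul, AddMonoidAlgebra.single_mul_single] }
  have hrefl : ∀ x, refl (refl x) = x := fun x => by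
    induction x using AddMonoidAlgebra.induction_linear with
    | zero => simp
    | add x y hx hy => rw [map_add, map_add, hx, hy]
    | single q c =>
      simp only [refl, AddMonoidAlgebra.lift_single, MonoidHom.coe_mk, OneHom.coe_mk, toAdd_ofAdd,
        AddMonoidAlgebra.smul_single, smul_eq_mul, neg_neg]
      congr 1
      rw [mul_assoc, ← map_mul, ← ofAdd_add, add_neg_cancel, ofAdd_zero, map_one, mul_one]
  have hb' : f (refl b) ≠ 0 := fun h => hb (by rw [← hrefl b, hfinj (h.trans (map_zero f).symm), map_zero])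
  have hfb : f b ≠ 0 := fun h => hb (hfinj (h.trans (map_zero f).symm))
  obtain ⟨g0, hg0⟩ : ∃ g : M, ((f b * f (refl b) : R) : M → k) g ≠ 0 := by
    by_contra! h
    exact mul_ne_zero hfb hb' (Subtype.ext (funext h))
  rw [Subalgebra.coe_mul, Pi.mul_apply, mul_ne_zero_iff, hfg, hfg] at hg0
  set δ' := (diagOn hM g0)⁻¹ * δ with hδ'def
  have hδ' : ∀ a ∈ rel (diagOn hM), pw δ' a = 0 := fun a ha => by
    rw [hδ'def, ← map_inv, pw_mul, hin g0⁻¹ a ha, hδ a ha, add_zero]
  have hevr : ev δ' hδ' b = ev (diagOn hM g0) (hin g0) (refl b) := by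
    have : (ev δ' hδ') = (ev (diagOn hM g0) (hin g0)).comp refl := by
      refine AlgHom.ext fun x => ?_
      induction x using AddMonoidAlgebra.induction_linear with
      | zero => simp
      | add x y hx hy => rw [map_add, map_add, hx, hy]
      | single q c =>
        obtain ⟨a, rfl⟩ := QuotientAddGroup.mk_surjective q
        simp only [ev, refl, AlgHom.comp_apply, AddMonoidAlgebra.lift_single, map_smul, MonoidHom.coe_mk, OneHom.coe_mk,
          toAdd_ofAdd, ← QuotientAddGroup.mk_neg, chr_mk, smul_eq_mul]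
        congr 1
        rw [← Units.val_mul]
        congr 1
        rw [hδ'def, pw_mul, map_neg, toMul_add, toMul_neg, mul_comm]
        congr 1
        have h0 := pw_mul (diagOn hM g0) (diagOn hM g0)⁻¹ a
        rw [mul_inv_cancel, pw_one] at h0
        rw [← toMul_neg, neg_eq_of_add_eq_zero_right h0.symm]
    rw [this]; rfl
  -- lift the good point
  let P : PrimeSpectrum (AddMonoidAlgebra k ((Fin n → ℤ) ⧸ rel (diagOn hM))) := ⟨RingHom.ker (ev δ' hδ').toRingHom, RingHom.ker_isPrime _⟩
  obtain ⟨q, hq⟩ := hbr (show P ∈ PrimeSpectrum.basicOpen b from fun h => hg0.2 (hevr.symm.trans (RingHom.mem_ker.1 h)))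
  obtain ⟨m, hm, hqm⟩ := Ideal.exists_le_maximal q.asIdeal q.2.ne_top
  haveI := hm
  letI : Field (R ⧸ m) := Ideal.Quotient.field m
  haveI : Algebra.FiniteType k (R ⧸ m) := inferInstance
  haveI : Module.Finite k (R ⧸ m) := finite_of_finite_type_of_isJacobsonRing k (R ⧸ m)
  let ι := AlgEquiv.ofBijective (Algebra.ofId k (R ⧸ m))
    (IsAlgClosed.algebraMap_bijective_of_isIntegral (k := k) (K := R ⧸ m))
  let ψ : R →ₐ[k] k := ι.symm.toAlgHom.comp (Ideal.Quotient.mkₐ k m)
  have hkψ : ∀ x, ψ x = 0 ↔ x ∈ m := fun x => by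
    simp [ψ, Ideal.Quotient.eq_zero_iff_mem]
  have hψf : ψ.comp f = ev δ' hδ' := by
    refine AlgHom.ext fun x => ?_
    have hmax : (RingHom.ker (ev δ' hδ').toRingHom).IsMaximal :=
      RingHom.ker_isMaximal_of_surjective _ (fun c => ⟨algebraMap k _ c, (ev δ' hδ').commutes c⟩)
    have hle : RingHom.ker (ev δ' hδ').toRingHom ≤ RingHom.ker (ψ.comp f).toRingHom := fun y hy => by
      rw [RingHom.mem_ker]
      refine (hkψ _).2 (hqm ?_)
      have : y ∈ (PrimeSpectrum.comap f.toRingHom q).asIdeal := by rw [hq]; exact hy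
      exact this
    have : x - algebraMap k _ (ev δ' hδ' x) ∈ RingHom.ker (ev δ' hδ').toRingHom := by
      rw [RingHom.mem_ker]
      show ev δ' hδ' (x - algebraMap k _ (ev δ' hδ' x)) = 0
      rw [map_sub, AlgHom.commutes]
      exact sub_self _
    have h2 : (ψ.comp f) (x - algebraMap k _ (ev δ' hδ' x)) = 0 := RingHom.mem_ker.1 (hle this)
    rw [map_sub, AlgHom.commutes, sub_eq_zero] at h2
    exact h2
  let A : Mat := fun a c => ψ ⟨entF (a, c), Algebra.subset_adjoin (Or.inl ⟨_, rfl⟩)⟩
  have heval : ∀ p : MvPolynomial (Fin n × Fin n) k,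
      ψ ⟨_, hpoly p⟩ = MvPolynomial.eval (fun x => A x.1 x.2) p := fun p => by
    induction p using MvPolynomial.induction_on with
    | C c =>
      simp only [MvPolynomial.eval_C]
      exact (congrArg ψ (Subtype.ext (funext fun g => by simp))).trans (ψ.commutes c)
    | add p r hp hr =>
      rw [map_add, ← hp, ← hr, ← map_add]
      exact congrArg ψ (Subtype.ext (funext fun g => by simp))
    | mul_X p x hp =>
      rw [map_mul, ← hp, MvPolynomial.eval_X, ← map_mul]
      exact congrArg ψ (Subtype.ext (funext fun g => by simp [entF]))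
  have hdet : A.det ≠ 0 := by
    have h1 := heval (Matrix.det (Matrix.of fun a c : Fin n => (MvPolynomial.X (a, c) : MvPolynomial (Fin n × Fin n) k)))
    rw [RingHom.map_det] at h1
    have h2 : ((MvPolynomial.eval fun x : Fin n × Fin n => A x.1 x.2).mapMatrix
        (Matrix.of fun a c : Fin n => (MvPolynomial.X (a, c) : MvPolynomial (Fin n × Fin n) k))) = A := by
      ext a c; simp
    rw [h2] at h1
    intro h0
    have h3 := congrArg ψ (show (⟨_, hpoly (Matrix.det (Matrix.of fun a c : Fin n =>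
        (MvPolynomial.X (a, c) : MvPolynomial (Fin n × Fin n) k)))⟩ * ⟨detF, Algebra.subset_adjoin (Or.inr rfl)⟩ : R) = 1
      from Subtype.ext (funext fun g => by simp [detF, eval_det, mul_inv_cancel₀ (det_ne_zero g.1)]))
    rw [map_mul, map_one, h1, h0, zero_mul] at h3
    exact zero_ne_one h3
  let gm : GLk := Matrix.GeneralLinearGroup.mkOfDetNeZero A hdet
  have hgm : ent gm = fun x => A x.1 x.2 := rfl
  obtain ⟨S', hS'⟩ := isClosed_iff.1 hcl
  have hgmM : gm ∈ M := (hS' gm).2 fun p hp => by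
    rw [hgm, ← heval]
    exact (congrArg ψ (Subtype.ext (funext fun g => (hS' g.1).1 g.2 p hp) :
      (⟨_, hpoly p⟩ : R) = 0)).trans (map_zero ψ)
  refine ⟨g0 * ⟨gm, hgmM⟩, ?_⟩
  have hd : diagOn hM ⟨gm, hgmM⟩ = δ' := by
    funext i
    refine Units.ext ?_
    have h1 := AlgHom.congr_fun hψf (AddMonoidAlgebra.single (QuotientAddGroup.mk (Pi.single i 1)) 1)
    simp only [AlgHom.comp_apply, ev, AddMonoidAlgebra.lift_single, one_smul, chr_mk, pw_single, toMul_ofMul] at h1
    rw [← h1, diagOn_apply]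
    refine congrArg ψ (Subtype.ext (funext fun g => ?_))
    rw [hfg]
    simp [ev, chr_mk, pw_single, entF, ent, diagOn_apply]
  rw [map_mul, hd, hδ'def, mul_inv_cancel_left]

end Groth.Agent.MatGrp21
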