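import Groth.Agent.Lib.MatGrp21.Torus
import Groth.Agent.Lib.MatGrp21.Avg

/-!
# Structure of irreducible closed triangular groups
-/

set_option autoImplicit false
universe u

noncomputable section

namespace Groth.Agent.MatGrp21

variable {k : Type u} [Field k] {n : ℕ}

local notation "GLk" => GL (Fin n) k
local notation "Mat" => Matrix (Fin n) (Fin n) k

/-- The elements of finite order invertible in the field. -/
def tors (S : Set (GL (Fin n) k)) : Set (GL (Fin n) k) := {x | x ∈ S ∧ ∃ L : ℕ, (L : k) ≠ 0 ∧ x ^ L = 1}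

/-- Structure of an irreducible closed triangular group: a torus and the unipotent part. -/
structure Decomp (M : Subgroup (GL (Fin n) k)) where
  T : Subgroup (GL (Fin n) k)
  P : GL (Fin n) k
  rho : Fin n → Fin n
  le : T ≤ M
  closed : IsClosed (T : Set (GL (Fin n) k))
  irreducible : IsPreirreducible (T : Set (GL (Fin n) k))
  comm : ∀ a ∈ T, ∀ b ∈ T, Commute a b
  diag : ∀ t ∈ T, ((P * t * P⁻¹ : GL (Fin n) k) : Matrix (Fin n) (Fin n) k) =
    Matrix.diagonal fun j => (t : Matrix (Fin n) (Fin n) k) (rho j) (rho j)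
  inf_eq : T ⊓ lay 1 = ⊥
  exists_mem : ∀ m ∈ M, ∃ t ∈ T, t⁻¹ * m ∈ lay 1
  dense : (T : Set (GL (Fin n) k)) ⊆ closure (tors (T : Set (GL (Fin n) k)))

theorem nonempty_decomp [IsAlgClosed k] {M : Subgroup (GL (Fin n) k)} (hM : M ≤ upper)
    (hcl : IsClosed (M : Set (GL (Fin n) k))) (hirr : IsPreirreducible (M : Set (GL (Fin n) k))) :
    Nonempty (Decomp M) := by
  obtain ⟨T, P, ρ, l, hl, hlk, hle, hTcl, hTirr, hTc, hTd, hT1, hTm, hTdense⟩ := exists_torus hM hcl hirr
  exact ⟨⟨T, P, ρ, hle, hTcl, hTirr, hTc, hTd, hT1, hTm, hTdense _ isClosed_closure fun t ht ⟨j, hj⟩ =>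
    subset_closure ⟨ht, l ^ j, by rw [Nat.cast_pow]; exact pow_ne_zero _ hlk, hj⟩⟩⟩

variable {M : Subgroup (GL (Fin n) k)}

/-- The unipotent part is irreducible. -/
theorem Decomp.isPreirreducible_unip (D : Decomp M) (hM : M ≤ upper)
    (hirr : IsPreirreducible (M : Set (GL (Fin n) k))) :
    IsPreirreducible ((M ⊓ lay 1 : Subgroup (GL (Fin n) k)) : Set GLk) := by
  classical
  let f : GLk → GLk := fun m => if h : m ∈ M then (Classical.choose (D.exists_mem m h))⁻¹ * m else 1
  have hf : ∀ m ∈ M, ∃ t ∈ D.T, f m = t⁻¹ * m ∧ t⁻¹ * m ∈ lay 1 := fun m hm =>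
    ⟨_, (Classical.choose_spec (D.exists_mem m hm)).1, by simp only [f, dif_pos hm],
      (Classical.choose_spec (D.exists_mem m hm)).2⟩
  have hreg : RegOn (M : Set GLk) f := by
    refine regOn_iff.2 (MatRegOn.congr ((((matRegOn_const ((D.P⁻¹ : GLk) : Mat)).mul
      (φ := fun _ => ((D.P⁻¹ : GLk) : Mat))
      (ψ := fun m : GLk => Matrix.diagonal fun j => ((m⁻¹ : GLk) : Mat) (D.rho j) (D.rho j))
      (fun a b => ?_)).mul (matRegOn_const (D.P : Mat))).mul (regOn_iff.1 regOn_id)) fun m hm => ?_)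
    · rcases eq_or_ne a b with rfl | hab
      · exact ⟨_, isReg_inv_entry (D.rho a) (D.rho a), fun g _ => Matrix.diagonal_apply_eq _ _⟩
      · exact ⟨_, isReg_const 0, fun g _ => Matrix.diagonal_apply_ne _ hab⟩
    · obtain ⟨t, ht, hft, hu⟩ := hf m hm
      rw [hft, Units.val_mul]
      congr 1
      have hd : ∀ i, ((t⁻¹ : GLk) : Mat) i i = ((m⁻¹ : GLk) : Mat) i i := fun i => by
        have h1 := diag_mul hu.1 ((upper : Subgroup GLk).inv_mem (hM hm)) i
        rw [mul_inv_cancel_right, (mem_lay_one_iff.1 hu).2 i, one_mul] at h1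
        exact h1
      rw [show ((t⁻¹ : GLk) : Mat) =
          ((D.P⁻¹ : GLk) : Mat) * ((D.P * t⁻¹ * D.P⁻¹ : GLk) : Mat) * (D.P : Mat) from ?_, D.diag _ (D.T.inv_mem ht)]
      · simp only [hd]
      · rw [← Units.val_mul, ← Units.val_mul]
        congr 1
        group
  convert hirr.image f hreg.continuousOn using 1
  ext g
  simp only [Set.mem_image, SetLike.mem_coe, Subgroup.mem_inf]
  constructor
  · rintro ⟨hgM, hgl⟩
    obtain ⟨t, ht, hft, hu⟩ := hf g hgM
    refine ⟨g, hgM, ?_⟩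
    have : t ∈ D.T ⊓ lay 1 := ⟨ht, by
      have := (lay 1).mul_mem hgl ((lay 1).inv_mem hu)
      rwa [mul_inv_rev, inv_inv, ← mul_assoc, mul_inv_cancel, one_mul] at this⟩
    rw [D.inf_eq, Subgroup.mem_bot] at this
    rw [hft, this, inv_one, one_mul]
  · rintro ⟨m, hm, rfl⟩
    obtain ⟨t, ht, hft, hu⟩ := hf m hm
    rw [hft]
    exact ⟨M.mul_mem (M.inv_mem (D.le ht)) hm, hu⟩

/-- A set with dense torsion has the centraliser of finitely many of its torsion elements. -/
theorem exists_finset_centralizer {S : Set (GL (Fin n) k)} (hS : S ⊆ closure (tors S)) :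
    ∃ F : Finset (GL (Fin n) k), (∀ x ∈ F, x ∈ tors S) ∧
      Subgroup.centralizer (F : Set (GL (Fin n) k)) = Subgroup.centralizer S := by
  classical
  obtain ⟨F, hF⟩ := exists_finset_iInter (fun x : tors S => {g : GLk | g * x.1 = x.1 * g}) fun x => isClosed_commute _
  refine ⟨F.image Subtype.val, fun x hx => ?_, le_antisymm (fun g hg => Subgroup.mem_centralizer_iff.2 fun x hx => ?_)
    (Subgroup.centralizer_le fun x hx => ?_)⟩
  · obtain ⟨y, -, rfl⟩ := Finset.mem_image.1 hx
    exact y.2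
  · have h1 : tors S ⊆ {y | y * g = g * y} := fun y hy => by
      have hgi : g ∈ ⋂ b ∈ F, {g' : GLk | g' * b.1 = b.1 * g'} := by
        simp only [Set.mem_iInter]
        exact fun b hb => (Subgroup.mem_centralizer_iff.1 hg b.1 (Finset.mem_image_of_mem _ hb)).symm
      have := hF ⟨y, hy⟩ hgi
      exact this.symm
    exact closure_minimal h1 (isClosed_commute g) (hS hx)
  · obtain ⟨y, -, rfl⟩ := Finset.mem_image.1 (Finset.mem_coe.1 hx)
    exact y.2.1

/-- Centralisers of subtori are irreducible. -/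
theorem Decomp.isPreirreducible_centralizer (D : Decomp M) (hM : M ≤ upper)
    (hcl : IsClosed (M : Set (GL (Fin n) k))) (hirr : IsPreirreducible (M : Set (GL (Fin n) k)))
    {S : Set (GL (Fin n) k)} (hST : S ⊆ D.T) (hS : S ⊆ closure (tors S)) :
    IsPreirreducible ((M ⊓ Subgroup.centralizer S : Subgroup (GL (Fin n) k)) : Set GLk) := by
  obtain ⟨F, hF, hFS⟩ := exists_finset_centralizer hS
  have hU := MatGrp21.isPreirreducible_centralizer (U := M ⊓ lay 1) (isClosed_inf hcl (isClosed_lay 1)) inf_le_right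
    (D.isPreirreducible_unip hM hirr) F (fun x hx => hM (D.le (hST (hF x hx).1)))
    (fun x hx g hg => by
      have hxM := D.le (hST (hF x hx).1)
      refine ⟨M.mul_mem (M.mul_mem (M.inv_mem hxM) hg.1) hxM, ?_⟩
      have h := conj_mem_lay ((upper : Subgroup GLk).inv_mem (hM hxM)) hg.2
      rwa [inv_inv] at h)
    (fun x hx y hy => D.comm x (hST (hF x hx).1) y (hST (hF y hy).1)) (fun x hx => (hF x hx).2)
  rw [hFS] at hU
  convert isPreirreducible_image2 D.irreducible hU (fun t u => t * u) continuous_mul_left' continuous_mul_right'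
    using 1
  ext g
  simp only [Set.mem_image2, SetLike.mem_coe, Subgroup.mem_inf]
  constructor
  · rintro ⟨hgM, hgC⟩
    obtain ⟨t, ht, hu⟩ := D.exists_mem g hgM
    refine ⟨t, ht, t⁻¹ * g, ⟨⟨M.mul_mem (M.inv_mem (D.le ht)) hgM, hu⟩, ?_⟩, mul_inv_cancel_left t g⟩
    exact Subgroup.mul_mem _ (Subgroup.inv_mem _ (Subgroup.mem_centralizer_iff.2 fun x hx =>
      D.comm x (hST hx) t ht)) hgC
  · rintro ⟨t, ht, u, ⟨⟨huM, -⟩, huC⟩, rfl⟩
    exact ⟨M.mul_mem (D.le ht) huM, Subgroup.mul_mem _ (Subgroup.mem_centralizer_iff.2 fun x hx =>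
      D.comm x (hST hx) t ht) huC⟩

/-- Commutative subsets with dense torsion are conjugate into the torus. -/
theorem Decomp.exists_conj (D : Decomp M) (hM : M ≤ upper) (hcl : IsClosed (M : Set (GL (Fin n) k)))
    {S : Set (GL (Fin n) k)} (hSM : S ⊆ M) (hSc : ∀ a ∈ S, ∀ b ∈ S, Commute a b) (hS : S ⊆ closure (tors S)) :
    ∃ u ∈ M ⊓ lay 1, ∀ x ∈ S, u * x * u⁻¹ ∈ D.T := by
  obtain ⟨u, hu, hux⟩ := exists_conj_mem hcl hM D.closed D.le D.comm D.inf_eq D.exists_mem (tors S)
    (fun x hx => hSM hx.1) (fun a ha b hb => hSc a ha.1 b hb.1) (fun x hx => hx.2)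
  exact ⟨u, hu, fun x hx => closure_minimal (t := (fun g : GLk => u * g * u⁻¹) ⁻¹' (D.T : Set GLk)) hux
    (D.closed.preimage (continuous_conj u)) (hS hx)⟩

/-- A diagonalisable element of the group commuting with the torus lies in the torus. -/
theorem Decomp.mem_of_diag [IsAlgClosed k] (D : Decomp M) {Q g : GL (Fin n) k} (hgM : g ∈ M)
    (hgc : ∀ t ∈ D.T, Commute g t)
    (hQ : ((Q * g * Q⁻¹ : GL (Fin n) k) : Matrix (Fin n) (Fin n) k).IsDiag) : g ∈ D.T := by
  obtain ⟨t, ht, hu⟩ := D.exists_mem g hgM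
  suffices t⁻¹ * g = 1 by
    have h : g = t := (inv_mul_eq_one.1 this).symm
    rwa [h]
  set u := t⁻¹ * g with hu'
  let f : GLk → Module.End k (Fin n → k) := fun x => Matrix.toLinAlgEquiv' (x : Mat)
  have hss : ∀ (Q' x : GLk), ((Q' * x * Q'⁻¹ : GLk) : Mat).IsDiag → (f x).IsSemisimple := fun Q' x hd => by
    classical
    have e : ((Q' * x * Q'⁻¹ : GLk) : Mat) = Matrix.diagonal fun i => ((Q' * x * Q'⁻¹ : GLk) : Mat) i i :=
      (Matrix.isDiag_iff_diagonal_diag _).1 hd |>.symm
    refine Module.End.isSemisimple_of_squarefree_aeval_eq_zero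
      (p := ∏ c ∈ Finset.univ.image (fun i => ((Q' * x * Q'⁻¹ : GLk) : Mat) i i), (Polynomial.X - Polynomial.C c))
      (Polynomial.separable_prod_X_sub_C_iff'.2 fun a _ b _ h => h).squarefree ?_
    show Polynomial.aeval (Matrix.toLinAlgEquiv' (x : Mat)) _ = 0
    rw [Polynomial.aeval_algHom_apply]
    suffices h : Polynomial.aeval (x : Mat)
        (∏ c ∈ Finset.univ.image (fun i => ((Q' * x * Q'⁻¹ : GLk) : Mat) i i), (Polynomial.X - Polynomial.C c)) = 0 by
      rw [h, map_zero]
    let cj : Mat →ₐ[k] Mat :=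
      { toFun := fun A => ((Q'⁻¹ : GLk) : Mat) * A * (Q' : Mat)
        map_one' := by rw [mul_one, Units.inv_mul]
        map_mul' := fun A B => by
          simp only [mul_assoc]
          rw [Units.mul_inv_cancel_left]
        map_zero' := by rw [mul_zero, zero_mul]
        map_add' := fun A B => by rw [mul_add, add_mul]
        commutes' := fun c => by
          rw [← Algebra.commutes, mul_assoc, Units.inv_mul, mul_one] }
    have hx : (x : Mat) = cj (((Q' * x * Q'⁻¹ : GLk) : Mat)) := by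
      show (x : Mat) = ((Q'⁻¹ : GLk) : Mat) * _ * _
      rw [← Units.val_mul, ← Units.val_mul]
      congr 1
      group
    set d : Fin n → k := fun i => ((Q' * x * Q'⁻¹ : GLk) : Mat) i i with hd'
    rw [hx, Polynomial.aeval_algHom_apply, e,
      show Matrix.diagonal d = Matrix.diagonalAlgHom k d from rfl, Polynomial.aeval_algHom_apply]
    suffices h : Polynomial.aeval d (∏ c ∈ Finset.univ.image d, (Polynomial.X - Polynomial.C c)) = 0 by
      rw [h, map_zero, map_zero]
    funext i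
    simp only [map_prod, map_sub, Polynomial.aeval_X, Polynomial.aeval_C, Finset.prod_apply, Pi.sub_apply, Pi.zero_apply]
    exact Finset.prod_eq_zero (Finset.mem_image_of_mem _ (Finset.mem_univ i)) (by simp)
  have htd : ((D.P * t⁻¹ * D.P⁻¹ : GLk) : Mat).IsDiag := by
    rw [D.diag _ (D.T.inv_mem ht)]
    exact Matrix.isDiag_diagonal _
  have hc : Commute (f t⁻¹) (f g) :=
    (((hgc t⁻¹ (D.T.inv_mem ht)).symm).map (Units.coeHom _)).map Matrix.toLinAlgEquiv'.toAlgHom
  have hmul : f u = f t⁻¹ * f g := by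
    show Matrix.toLinAlgEquiv' _ = _
    rw [hu', Units.val_mul, map_mul]
  have hsu : (f u).IsSemisimple := hmul ▸ (hss _ _ htd).mul_of_commute hc (hss _ _ hQ)
  have hs1 : (f u - 1).IsSemisimple := hsu.sub_of_commute (Commute.one_right _) Module.End.isSemisimple_id
  have hnil : IsNilpotent (f u - 1) := by
    refine ⟨n, ?_⟩
    show (Matrix.toLinAlgEquiv' (u : Mat) - 1) ^ n = 0
    rw [← map_one Matrix.toLinAlgEquiv', ← map_sub, ← map_pow,
      (show ((u : Mat) - 1) ^ n = 0 from isUnip_of_mem_lay hu), map_zero]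
  have hz := Module.End.eq_zero_of_isNilpotent_isSemisimple hnil hs1
  refine Units.ext (Matrix.toLinAlgEquiv'.injective ?_)
  rw [Units.val_one, map_one]
  exact sub_eq_zero.1 hz

end Groth.Agent.MatGrp21
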