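import Groth.Agent.Lib.MatGrp21.Layers
import Groth.Agent.Lib.MatGrp21.Lift
import Groth.Agent.Lib.MatGrp21.Diag
import Mathlib.GroupTheory.CosetCover
import Mathlib.GroupTheory.Divisible
import Mathlib.Algebra.Category.Grp.Injective
import Mathlib.LinearAlgebra.FreeModule.PID
import Mathlib.RingTheory.RootsOfUnity.PrimitiveRoots
import Mathlib.Order.Zorn
import Mathlib.Algebra.MvPolynomial.Monad
import Mathlib.RingTheory.RootsOfUnity.AlgebraicallyClosed

/-!
# A maximal torus of an irreducible closed triangular group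
-/

set_option autoImplicit false
universe u

open scoped Pointwise

noncomputable section

namespace Groth.Agent.MatGrp21

variable {k : Type u} [Field k] {n : ℕ}

local notation "GLk" => GL (Fin n) k
local notation "Mat" => Matrix (Fin n) (Fin n) k

theorem exists_prime_ne (k : Type u) [Field k] : ∃ l : ℕ, l.Prime ∧ (l : k) ≠ 0 := by
  by_cases h : ((2 : ℕ) : k) = 0
  · refine ⟨3, Nat.prime_three, fun h3 => one_ne_zero (α := k) ?_⟩
    push_cast at h h3
    linear_combination h3 - h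
  · exact ⟨2, Nat.prime_two, h⟩

theorem pw_zsmul_eq (δ : Fin n → kˣ) (φ : (Fin n → ℤ) →+ Additive kˣ)
    (h : ∀ i, φ (Pi.single i 1) = Additive.ofMul (δ i)) : pw δ = φ := by
  classical
  refine AddMonoidHom.ext fun a => ?_
  rw [← Finset.univ_sum_single a, map_sum, map_sum]
  refine Finset.sum_congr rfl fun i _ => ?_
  have e : (Pi.single i (a i) : Fin n → ℤ) = a i • Pi.single i 1 := by
    rw [← Pi.single_smul, smul_eq_mul, mul_one]
  rw [e, map_zsmul, map_zsmul, pw_single, h]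

theorem pw_pow (δ : Fin n → kˣ) (m : ℕ) (a : Fin n → ℤ) : pw (δ ^ m) a = m • pw δ a := by
  induction m with
  | zero => rw [pow_zero, pw_one, zero_smul]
  | succ m ih => rw [pow_succ, pw_mul, ih, succ_nsmul]

/-- The entries of a conjugate back from diagonal coordinates. -/
def backPoly (P : GL (Fin n) k) (p : MvPolynomial (Fin n × Fin n) k) : MvPolynomial (Fin n) k :=
  MvPolynomial.bind₁ (fun x : Fin n × Fin n => ∑ j,
    MvPolynomial.C (((P⁻¹ : GL (Fin n) k) : Matrix (Fin n) (Fin n) k) x.1 j * (P : Matrix (Fin n) (Fin n) k) j x.2) *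
      MvPolynomial.X j) p

theorem eval_backPoly (P g : GLk) (δ : Fin n → kˣ) (hg : ((P * g * P⁻¹ : GLk) : Mat) = Matrix.diagonal fun i => (δ i : k))
    (p : MvPolynomial (Fin n × Fin n) k) :
    MvPolynomial.eval (fun i => (δ i : k)) (backPoly P p) = MvPolynomial.eval (ent g) p := by
  rw [backPoly, ← MvPolynomial.aeval_eq_eval, ← MvPolynomial.aeval_eq_eval]
  rw [MvPolynomial.aeval_bind₁]
  congr 1
  refine congrArg MvPolynomial.aeval (funext fun x => ?_)
  have e : (g : Mat) = ((P⁻¹ : GLk) : Mat) * Matrix.diagonal (fun i => (δ i : k)) * (P : Mat) := by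
    rw [← hg, ← Units.val_mul, ← Units.val_mul]
    congr 1
    group
  show MvPolynomial.aeval _ _ = (g : Mat) x.1 x.2
  rw [e, map_sum, Matrix.mul_apply]
  refine Finset.sum_congr rfl fun j _ => ?_
  rw [map_mul, MvPolynomial.aeval_C, MvPolynomial.aeval_X, Matrix.mul_diagonal]
  simp only [Algebra.algebraMap_self, RingHom.id_apply]
  ring

set_option maxHeartbeats 1000000 in
/-- An irreducible closed triangular group contains a torus mapping onto its diagonal values. -/
theorem exists_torus [IsAlgClosed k] {M : Subgroup (GL (Fin n) k)} (hM : M ≤ upper)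
    (hcl : IsClosed (M : Set (GL (Fin n) k))) (hirr : IsPreirreducible (M : Set (GL (Fin n) k))) :
    ∃ (T : Subgroup (GL (Fin n) k)) (P : GL (Fin n) k) (ρ : Fin n → Fin n) (l : ℕ), l.Prime ∧ (l : k) ≠ 0 ∧ T ≤ M ∧
      IsClosed (T : Set (GL (Fin n) k)) ∧ IsPreirreducible (T : Set (GL (Fin n) k)) ∧
      (∀ a ∈ T, ∀ b ∈ T, Commute a b) ∧ (∀ t ∈ T, ((P * t * P⁻¹ : GLk) : Mat) = Matrix.diagonal fun j => (t : Mat) (ρ j) (ρ j)) ∧
      T ⊓ lay 1 = ⊥ ∧ (∀ m ∈ M, ∃ t ∈ T, t⁻¹ * m ∈ lay 1) ∧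
      ∀ U : Set (GL (Fin n) k), IsClosed U → (∀ t ∈ T, (∃ j : ℕ, t ^ l ^ j = 1) → t ∈ U) → (T : Set GLk) ⊆ U := by
  classical
  obtain ⟨l, hl, hlk⟩ := exists_prime_ne k
  have hlpow : ∀ j : ℕ, ((l ^ j : ℕ) : k) ≠ 0 := fun j => by rw [Nat.cast_pow]; exact pow_ne_zero _ hlk
  -- a maximal commuting family of torsion elements
  obtain ⟨E, hE⟩ := zorn_subset
    {S : Set GLk | (∀ g ∈ S, g ∈ M ∧ ∃ j : ℕ, g ^ l ^ j = 1) ∧ ∀ a ∈ S, ∀ b ∈ S, Commute a b}
    fun c hc hchain => ⟨⋃₀ c, ⟨fun g hg => by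
      obtain ⟨S, hS, hgS⟩ := hg
      exact (hc hS).1 g hgS, fun a ha b hb => by
      obtain ⟨S, hS, haS⟩ := ha
      obtain ⟨S', hS', hbS'⟩ := hb
      rcases hchain.total hS hS' with h | h
      · exact (hc hS').2 a (h haS) b hbS'
      · exact (hc hS).2 a haS b (h hbS')⟩, fun S hS => Set.subset_sUnion_of_mem hS⟩
  obtain ⟨⟨hEM, hEc⟩, hmax⟩ := hE
  have hadd : ∀ g ∈ M, (∃ j : ℕ, g ^ l ^ j = 1) → (∀ e ∈ E, Commute g e) → g ∈ E := fun g hg hgt hgc => by
    have := hmax (y := insert g E) ⟨by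
      rintro a (rfl | ha)
      · exact ⟨hg, hgt⟩
      · exact hEM a ha, by
      rintro a (rfl | ha) b (rfl | hb)
      · exact Commute.refl _
      · exact hgc b hb
      · exact (hgc a ha).symm
      · exact hEc a ha b hb⟩ (Set.subset_insert _ _)
    exact this (Set.mem_insert _ _)
  let EG : Subgroup GLk :=
    { carrier := E
      one_mem' := hadd 1 M.one_mem ⟨0, by simp⟩ fun e _ => Commute.one_left e
      mul_mem' := fun {a b} ha hb => by
        obtain ⟨i, hi⟩ := (hEM a ha).2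
        obtain ⟨j, hj⟩ := (hEM b hb).2
        refine hadd _ (M.mul_mem (hEM a ha).1 (hEM b hb).1) ⟨i + j, ?_⟩ fun e he =>
          (hEc a ha e he).mul_left (hEc b hb e he)
        rw [(hEc a ha b hb).mul_pow, pow_add, pow_mul, hi, one_pow, _root_.one_mul, mul_comm, pow_mul, hj, one_pow]
      inv_mem' := fun {a} ha => by
        obtain ⟨i, hi⟩ := (hEM a ha).2
        exact hadd _ (M.inv_mem (hEM a ha).1) ⟨i, by rw [inv_pow, hi, inv_one]⟩ fun e he => (hEc a ha e he).inv_left }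
  have hEGM : EG ≤ M := fun g hg => (hEM g hg).1
  have hEt : ∀ g ∈ E, ∃ L : ℕ, (L : k) ≠ 0 ∧ g ^ L = 1 := fun g hg =>
    (hEM g hg).2.elim fun j hj => ⟨l ^ j, hlpow j, hj⟩
  -- unipotent elements of the family are trivial
  have hE1 : ∀ g ∈ E, g ∈ lay 1 → g = 1 := fun g hg hgl => by
    obtain ⟨L, hL, hgL⟩ := hEt g hg
    exact root_unique (isUnip_of_mem_lay hgl) isUnip_one hL (by rw [hgL, one_pow])
  -- torsion diagonal values come from the family
  let Λ := rel (diagOn hM)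
  have hliftE : ∀ δ : Fin n → kˣ, (∀ a ∈ Λ, pw δ a = 0) → (∃ j : ℕ, δ ^ l ^ j = 1) →
      ∃ e : EG, diagOn hM ⟨e.1, hEGM e.2⟩ = δ := by
    rintro δ hδ ⟨j, hj⟩
    obtain ⟨g, hg⟩ := exists_diag hM hcl hirr δ hδ
    obtain ⟨F, hF⟩ := exists_finset_iInter (fun e : E => {x : GLk | x * e.1 = e.1 * x}) fun e => isClosed_commute _
    let K := M ⊓ Subgroup.centralizer E
    obtain ⟨v, hv, hgv⟩ := exists_mem_centralizer hcl hM (F.image Subtype.val)
      (fun s hs => by obtain ⟨b, -, rfl⟩ := Finset.mem_image.1 hs; exact (hEM b b.2).1)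
      (fun s hs t ht => by
        obtain ⟨b, -, rfl⟩ := Finset.mem_image.1 hs
        obtain ⟨c, -, rfl⟩ := Finset.mem_image.1 ht
        exact hEc b b.2 c c.2)
      (fun s hs => by obtain ⟨b, -, rfl⟩ := Finset.mem_image.1 hs; exact hEt b b.2) g.2
    have hgK : g.1 * v ∈ K := ⟨M.mul_mem g.2 hv.1, Subgroup.mem_centralizer_iff.2 fun e he => by
      refine (hF ⟨e, he⟩ ?_).symm
      simp only [Set.mem_iInter]
      exact fun b hb => (Subgroup.mem_centralizer_iff.1 hgv b.1 (Finset.mem_image_of_mem _ hb)).symm⟩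
    have hgu : g.1 * v ∈ upper := hM hgK.1
    have hdiag : diagOn hM ⟨g.1 * v, hgK.1⟩ = δ := by
      rw [← hg]
      funext a
      refine Units.ext ?_
      rw [diagOn_apply, diagOn_apply, diag_mul (hM g.2) hv.2.1, (mem_lay_one_iff.1 hv.2).2 a, mul_one]
    have hL : (g.1 * v) ^ l ^ j ∈ lay 1 := by
      refine mem_lay_one_iff.2 ⟨(upper : Subgroup GLk).pow_mem hgu _, fun a => ?_⟩
      have h1 : diagOn hM (⟨g.1 * v, hgK.1⟩ ^ l ^ j) a = 1 := by rw [map_pow, hdiag, hj]; rfl
      have h2 := congrArg (fun x : kˣ => (x : k)) h1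
      simp only [diagOn_apply, Units.val_one, SubmonoidClass.coe_pow] at h2
      exact h2
    obtain ⟨w, hw, hwL, -⟩ := exists_torsion_lift (isClosed_inf hcl (isClosed_centralizer E)) hgK hgu (hlpow j) hL
    have hmem : g.1 * v * w ∈ E := hadd _ (M.mul_mem hgK.1 hw.1.1) ⟨j, hwL⟩ fun e he =>
      ((Subgroup.mem_centralizer_iff.1 (K.mul_mem hgK hw.1).2) e he).symm
    refine ⟨⟨_, hmem⟩, ?_⟩
    rw [← hdiag]
    funext a
    refine Units.ext ?_
    rw [diagOn_apply, diagOn_apply, diag_mul hgu hw.2.1, (mem_lay_one_iff.1 hw.2).2 a, mul_one]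
  -- the lattice of the diagonal values is saturated
  have hin : ∀ g : M, ∀ a ∈ Λ, pw (diagOn hM g) a = 0 := fun g a ha => (mem_rel _).1 ha g
  have hΛsat : ∀ (m : ℕ) (a : Fin n → ℤ), m ≠ 0 → m • a ∈ Λ → a ∈ Λ := fun m a hm hma => by
    let e : GLk → (Fin n → kˣ) := fun g => if h : g ∈ upper then diagU ⟨g, h⟩ else 1
    have heM : ∀ g : M, e g.1 = diagOn hM g := fun g => dif_pos (hM g.2)
    obtain ⟨F, hF, hFv⟩ := isReg_monomial (e := e) (M : Set GLk)
        (fun i => ⟨fun g : GLk => (g : Mat) i i, fun g : GLk => ((g⁻¹ : GLk) : Mat) i i, isReg_entry i i,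
          isReg_inv_entry i i, fun g hg => by
            rw [heM ⟨g, hg⟩]
            refine ⟨rfl, ?_⟩
            have := diag_mul ((upper : Subgroup GLk).inv_mem (hM hg)) (hM hg) i
            rw [inv_mul_cancel, Units.val_one, Matrix.one_apply_eq] at this
            rw [Units.val_inv_eq_inv_val]
            exact eq_inv_of_mul_eq_one_left this.symm⟩) a
    have hroot : ∀ g ∈ M, F g ^ m = 1 := fun g hg => by
      rw [hFv g hg, heM ⟨g, hg⟩, ← Units.val_pow_eq_pow_val, ← toMul_nsmul, ← map_nsmul,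
        hin ⟨g, hg⟩ _ hma, toMul_zero, Units.val_one]
    have hcover : (M : Set GLk) ⊆ ⋃₀ (↑((Polynomial.nthRoots m (1 : k)).toFinset.image
        fun c : k => {g : GLk | F g = c}) : Set (Set GLk)) := fun g hg => by
      refine Set.mem_sUnion.2 ⟨{x | F x = F g}, ?_, rfl⟩
      simp only [Finset.coe_image, Set.mem_image, Finset.mem_coe, Multiset.mem_toFinset]
      exact ⟨F g, (Polynomial.mem_nthRoots (Nat.pos_of_ne_zero hm)).2 (hroot g hg), rfl⟩
    obtain ⟨Z, hZ, hMZ⟩ := isIrreducible_iff_sUnion_isClosed.1 ⟨⟨1, M.one_mem⟩, hirr⟩ _ (fun Z hZ => by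
      obtain ⟨c, -, rfl⟩ := Finset.mem_image.1 hZ
      exact isClosed_eq hF (isReg_const c)) hcover
    obtain ⟨c, -, rfl⟩ := Finset.mem_image.1 hZ
    refine (mem_rel _).2 fun g => ?_
    have h1 : F g.1 = F 1 := (hMZ g.2).trans (hMZ M.one_mem).symm
    rw [hFv g.1 g.2, hFv 1 M.one_mem, heM g, show e 1 = 1 from (dif_pos (upper : Subgroup GLk).one_mem).trans
      (map_one (diagU (k := k) (n := n))), pw_one] at h1
    exact Additive.toMul.injective (Units.ext h1)
  haveI : IsAddTorsionFree ((Fin n → ℤ) ⧸ Λ) := ⟨fun m hm x y hxy => by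
    obtain ⟨a, rfl⟩ := QuotientAddGroup.mk_surjective x
    obtain ⟨b, rfl⟩ := QuotientAddGroup.mk_surjective y
    rw [QuotientAddGroup.eq]
    refine hΛsat m _ hm ?_
    have hxy' : (QuotientAddGroup.mk (m • a) : (Fin n → ℤ) ⧸ Λ) = QuotientAddGroup.mk (m • b) := hxy
    rw [QuotientAddGroup.eq] at hxy'
    rwa [smul_add, smul_neg]⟩
  haveI : Module.Finite ℤ ((Fin n → ℤ) ⧸ Λ) :=
    Module.Finite.of_surjective (QuotientAddGroup.mk' Λ).toIntLinearMap (QuotientAddGroup.mk'_surjective Λ)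
  haveI : Module.Free ℤ ((Fin n → ℤ) ⧸ Λ) := inferInstance
  let bQ := Module.Free.chooseBasis ℤ ((Fin n → ℤ) ⧸ Λ)
  -- torsion values separate
  have hsep : ∀ c, c ∉ Λ → ∃ e : EG, pw (diagOn hM ⟨e.1, hEGM e.2⟩) c ≠ 0 := fun c hc => by
    obtain ⟨i, hi⟩ : ∃ i, bQ.repr (QuotientAddGroup.mk c) i ≠ 0 := by
      by_contra! h
      exact hc ((QuotientAddGroup.eq_zero_iff c).1 (bQ.repr.injective (Finsupp.ext fun i => by simp [h i])))
    let φ : (Fin n → ℤ) →+ ℤ := ((bQ.coord i).toAddMonoidHom).comp (QuotientAddGroup.mk' Λ)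
    have hφ : φ c ≠ 0 := hi
    let s := (φ c).natAbs
    haveI : NeZero ((l ^ s : ℕ) : k) := ⟨hlpow s⟩
    obtain ⟨ζ, hζ⟩ := HasEnoughRootsOfUnity.exists_primitiveRoot k (l ^ s)
    have hls : l ^ s ≠ 0 := pow_ne_zero _ hl.ne_zero
    let z : kˣ := (hζ.isUnit hls).unit
    have hz : IsPrimitiveRoot z (l ^ s) := hζ.isUnit_unit hls
    let δ : Fin n → kˣ := fun j => z ^ φ (Pi.single j 1)
    have hpw : pw δ = (zmultiplesHom (Additive kˣ) (Additive.ofMul z)).comp φ :=
      pw_zsmul_eq δ _ fun j => rfl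
    have hδ : ∀ a ∈ Λ, pw δ a = 0 := fun a ha => by
      rw [hpw]
      simp [φ, (QuotientAddGroup.eq_zero_iff a).2 ha]
    obtain ⟨e, he⟩ := hliftE δ hδ ⟨s, funext fun j => by
      show (z ^ φ (Pi.single j 1)) ^ l ^ s = 1
      rw [← zpow_natCast (z ^ _), ← zpow_mul, mul_comm, zpow_mul, zpow_natCast, hz.pow_eq_one, one_zpow]⟩
    refine ⟨e, ?_⟩
    rw [he, hpw]
    intro h
    have h1 : z ^ φ c = 1 := congrArg Additive.toMul h
    rw [hz.zpow_eq_one_iff_dvd] at h1
    have h2 : l ^ s ∣ s := by simpa [s] using Int.natAbs_dvd_natAbs.2 h1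
    exact absurd (Nat.le_of_dvd (Int.natAbs_pos.2 hφ) h2) (not_le.2 (Nat.lt_pow_self hl.one_lt))
  -- the family is divisible
  have hdiv : ∀ (j : ℕ) (e : EG), ∃ h : EG, h ^ l ^ j = e := by
    have h1 : ∀ e : EG, ∃ h : EG, h ^ l = e := fun e => by
      set δ := diagOn hM ⟨e.1, hEGM e.2⟩ with hδ
      let χ := QuotientAddGroup.lift Λ (pw δ) (hin _)
      choose r hr using fun i => IsAlgClosed.exists_pow_nat_eq ((Additive.toMul (χ (bQ i)) : kˣ) : k) hl.pos
      have hr0 : ∀ i, r i ≠ 0 := fun i h => by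
        have := hr i
        rw [h, zero_pow hl.ne_zero] at this
        exact (Units.ne_zero _) this.symm
      let χ' : ((Fin n → ℤ) ⧸ Λ) →ₗ[ℤ] Additive kˣ := bQ.constr ℤ fun i => Additive.ofMul (Units.mk0 (r i) (hr0 i))
      have hχ : l • χ' = χ.toIntLinearMap := bQ.ext fun i => by
        rw [LinearMap.smul_apply, Module.Basis.constr_basis]
        exact Additive.toMul.injective (Units.ext (by simp [hr i]))
      let δ' : Fin n → kˣ := fun i => Additive.toMul (χ' (QuotientAddGroup.mk (Pi.single i 1)))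
      have hpw : pw δ' = χ'.toAddMonoidHom.comp (QuotientAddGroup.mk' Λ) := pw_zsmul_eq δ' _ fun i => rfl
      have hpow : δ' ^ l = δ := funext fun i => by
        have := DFunLike.congr_fun hχ (QuotientAddGroup.mk (Pi.single i 1))
        rw [LinearMap.smul_apply] at this
        have h2 : χ.toIntLinearMap (QuotientAddGroup.mk (Pi.single i 1)) = Additive.ofMul (δ i) := pw_single δ i
        exact congrArg Additive.toMul (this.trans h2)
      obtain ⟨j, hj⟩ := (hEM e.1 e.2).2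
      have hδj : δ ^ l ^ j = 1 := by
        rw [hδ, ← map_pow, show (⟨e.1, hEGM e.2⟩ : M) ^ l ^ j = 1 from Subtype.ext hj, map_one]
      obtain ⟨h, hh⟩ := hliftE δ' (fun a ha => by rw [hpw]; simp [(QuotientAddGroup.eq_zero_iff a).2 ha])
        ⟨j + 1, by rw [pow_succ', pow_mul, hpow, hδj]⟩
      refine ⟨h, ?_⟩
      rw [← mul_inv_eq_one]
      refine Subtype.ext (hE1 _ (h ^ l * e⁻¹).2 (mem_lay_one_iff.2 ⟨hM (hEGM (h ^ l * e⁻¹).2), fun a => ?_⟩))
      have h3 : diagOn hM ⟨_, hEGM (h ^ l * e⁻¹).2⟩ = 1 := by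
        rw [show (⟨_, hEGM (h ^ l * e⁻¹).2⟩ : M) = ⟨h.1, hEGM h.2⟩ ^ l * (⟨e.1, hEGM e.2⟩)⁻¹ from Subtype.ext (by simp),
          map_mul, map_pow, map_inv, hh, hpow, hδ, mul_inv_cancel]
      have h4 := congrArg (fun x : Fin n → kˣ => (x a : k)) h3
      simpa only [diagOn_apply, Pi.one_apply, Units.val_one] using h4
    intro j
    induction j with
    | zero => exact fun e => ⟨e, by simp⟩
    | succ j ih =>
      intro e
      obtain ⟨h, hh⟩ := h1 e
      obtain ⟨h', hh'⟩ := ih h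
      exact ⟨h', by rw [pow_succ, pow_mul, hh', hh]⟩
  -- diagonal coordinates
  obtain ⟨P, hP⟩ := exists_diagonalize E hEc hEt
  let D : Set GLk := {g | ((P * g * P⁻¹ : GLk) : Mat).IsDiag}
  have hDcl : IsClosed D := by
    have : D = ⋂ (a : Fin n) (b : Fin n) (_ : a ≠ b), {g : GLk | ((P * g * P⁻¹ : GLk) : Mat) a b = 0} := by
      ext g
      simp only [Set.mem_iInter]
      exact ⟨fun h a b hab => h hab, fun h a b hab => h a b hab⟩
    rw [this]
    exact isClosed_iInter fun a => isClosed_iInter fun b => isClosed_iInter fun _ =>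
      isClosed_eq (isReg_mul_entry (φ := fun g => P * g) (ψ := fun _ => P⁻¹)
        (isReg_mul_entry (φ := fun _ => P) (ψ := id) (fun _ _ => isReg_const _) isReg_id_entry)
        (fun _ _ => isReg_const _) a b) (isReg_const 0)
  let DS : Subgroup GLk :=
    { carrier := {g | g ∈ (upper : Subgroup GLk) ∧ P * g * P⁻¹ ∈ (upper : Subgroup GLk)}
      one_mem' := ⟨(upper : Subgroup GLk).one_mem, by rw [mul_one, mul_inv_cancel]; exact (upper : Subgroup GLk).one_mem⟩
      mul_mem' := fun {a b} ha hb => ⟨(upper : Subgroup GLk).mul_mem ha.1 hb.1, by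
        rw [show P * (a * b) * P⁻¹ = (P * a * P⁻¹) * (P * b * P⁻¹) by group]
        exact (upper : Subgroup GLk).mul_mem ha.2 hb.2⟩
      inv_mem' := fun {a} ha => ⟨(upper : Subgroup GLk).inv_mem ha.1, by
        rw [show P * a⁻¹ * P⁻¹ = (P * a * P⁻¹)⁻¹ by group]
        exact (upper : Subgroup GLk).inv_mem ha.2⟩ }
  have hDU : ∀ g ∈ D, P * g * P⁻¹ ∈ (upper : Subgroup GLk) := fun g hg a b hab => hg (fun e => by subst e; omega)
  have hEG_DS : EG ≤ DS := fun g hg => ⟨hM (hEGM hg), hDU g (hP g hg)⟩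
  let eD : DS →* (Fin n → kˣ) :=
    { toFun := fun g => diagU ⟨P * g.1 * P⁻¹, g.2.2⟩
      map_one' := by rw [← map_one (diagU (k := k) (n := n))]; congr 1; exact Subtype.ext (by simp)
      map_mul' := fun a b => by
        rw [← map_mul]; congr 1
        exact Subtype.ext (by simp only [Subgroup.coe_mul]; group) }
  let δE : EG →* (Fin n → kˣ) := eD.comp (Subgroup.inclusion hEG_DS)
  have hδE : ∀ e : EG, ((P * e.1 * P⁻¹ : GLk) : Mat) = Matrix.diagonal fun i => (δE e i : k) := fun e => by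
    ext a b
    rcases eq_or_ne a b with rfl | hab
    · rw [Matrix.diagonal_apply_eq]; rfl
    · rw [Matrix.diagonal_apply_ne _ hab]; exact hP e.1 e.2 hab
  -- the closure
  let T : Subgroup GLk :=
    { carrier := closure E
      one_mem' := subset_closure EG.one_mem
      mul_mem' := fun {a b} ha hb => by
        have hl : ∀ e ∈ E, ∀ y ∈ closure E, e * y ∈ closure E := fun e he y hy =>
          map_mem_closure (continuous_mul_left' e) hy fun z hz => EG.mul_mem he hz
        have := map_mem_closure (continuous_mul_right' b) ha fun z hz => hl z hz b hb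
        rwa [closure_closure] at this
      inv_mem' := fun {a} ha => map_mem_closure continuous_inv' ha fun z hz => EG.inv_mem hz }
  have hTM : T ≤ M := closure_minimal (fun g hg => (hEM g hg).1) hcl
  have hTcomm : ∀ a ∈ T, ∀ b ∈ T, Commute a b := fun a ha b hb => by
    have h1 : ∀ e ∈ E, ∀ y ∈ closure E, y * e = e * y := fun e he y hy =>
      closure_minimal (fun z hz => hEc z hz e he) (isClosed_commute e) hy
    exact closure_minimal (fun z hz => (h1 z hz b hb).symm) (isClosed_commute b) ha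
  have hTD : (T : Set GLk) ⊆ D := closure_minimal (fun g hg => hP g hg) hDcl
  -- matching the eigenvalue characters
  have hchoose : ∀ (τ : EG →* kˣ) (τs : Fin n → EG →* kˣ), (∀ e, ∃ j, τ e = τs j e) → ∃ j, ∀ e, τ e = τs j e := by
    intro τ τs hτ
    let H : Fin n → Subgroup EG := fun j => τ.eqLocus (τs j)
    have hcov : ⋃ j ∈ (Finset.univ : Finset (Fin n)), (1 : EG) • (H j : Set EG) = Set.univ := by
      refine Set.eq_univ_of_forall fun e => ?_
      simp only [one_smul, Set.mem_iUnion, Finset.mem_univ, exists_const, SetLike.mem_coe]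
      exact hτ e
    obtain ⟨j, -, hfi⟩ := Subgroup.exists_finiteIndex_of_leftCoset_cover hcov
    refine ⟨j, fun e => (?_ : e ∈ H j)⟩
    have hcomm : ∀ a b : EG, Commute a b := fun a b => Subtype.ext (hEc a.1 a.2 b.1 b.2)
    haveI : (H j).Normal := ⟨fun a ha b => by rw [(hcomm b a).eq, mul_inv_cancel_right]; exact ha⟩
    let N := (H j).index
    obtain ⟨h, hh⟩ := hdiv N e
    obtain ⟨m, hm⟩ := (hEM h.1 h.2).2
    have hord : orderOf (QuotientGroup.mk (s := H j) h) ∣ l ^ m := orderOf_dvd_of_pow_eq_one (by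
      rw [← QuotientGroup.mk_pow, show h ^ l ^ m = 1 from Subtype.ext hm]; rfl)
    obtain ⟨s, -, hs⟩ := (Nat.dvd_prime_pow hl).1 hord
    have hidx : orderOf (QuotientGroup.mk (s := H j) h) ∣ N := orderOf_dvd_natCard _
    have hsN : s ≤ N := ((Nat.lt_pow_self hl.one_lt).le).trans
      (Nat.le_of_dvd (Nat.pos_of_ne_zero hfi.index_ne_zero) (hs ▸ hidx))
    rw [← QuotientGroup.eq_one_iff, ← hh, QuotientGroup.mk_pow, ← orderOf_dvd_iff_pow_eq_one, hs]
    exact Nat.pow_dvd_pow l hsN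
  let τM : Fin n → EG →* kˣ := fun i =>
    (Pi.evalMonoidHom (fun _ : Fin n => kˣ) i).comp ((diagOn hM).comp (Subgroup.inclusion hEGM))
  let τD : Fin n → EG →* kˣ := fun j => (Pi.evalMonoidHom (fun _ : Fin n => kˣ) j).comp δE
  have hprod : ∀ (e : EG) (c : k),
      (∏ i, ((e.1 : Mat) i i - c) = 0 ↔ ∏ j, ((δE e j : k) - c) = 0) := fun e c => by
    have h0 : ((e.1 : Mat) - Matrix.scalar (Fin n) c).det = ∏ i, ((e.1 : Mat) i i - c) := by
      rw [Matrix.det_of_upperTriangular]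
      · simp
      · intro a b hab
        rw [Matrix.sub_apply, Matrix.scalar_apply,
          Matrix.diagonal_apply_ne _ (fun e => by subst e; exact lt_irrefl _ hab), sub_zero]
        exact hM (hEGM e.2) a b (by simpa using hab)
    have h1 : ((Matrix.diagonal fun j => (δE e j : k)) - Matrix.scalar (Fin n) c).det = ∏ j, ((δE e j : k) - c) := by
      rw [Matrix.scalar_apply, Matrix.diagonal_sub, Matrix.det_diagonal]
    rw [← h0, ← h1, ← hδE e, show ((P * e.1 * P⁻¹ : GLk) : Mat) - Matrix.scalar (Fin n) c =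
      (P : Mat) * ((e.1 : Mat) - Matrix.scalar (Fin n) c) * ((P⁻¹ : GLk) : Mat) from ?_, Matrix.det_mul, Matrix.det_mul]
    · simp [det_ne_zero]
    rw [mul_sub, sub_mul, Units.val_mul, Units.val_mul,
      ← (Matrix.scalar_commute c (fun r => mul_comm c r) (P : Mat)).eq, mul_assoc (Matrix.scalar (Fin n) c),
      Units.mul_inv, mul_one]
  have hcl_eq : ∀ i j, IsClosed {g : GLk | (g : Mat) i i = ((P * g * P⁻¹ : GLk) : Mat) j j} := fun i j =>
    isClosed_eq (isReg_entry i i) (isReg_mul_entry (φ := fun g => P * g) (ψ := fun _ => P⁻¹)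
      (isReg_mul_entry (φ := fun _ => P) (ψ := id) (fun _ _ => isReg_const _) isReg_id_entry)
      (fun _ _ => isReg_const _) j j)
  have hσ : ∀ i, ∃ j, ∀ t ∈ T, (t : Mat) i i = ((P * t * P⁻¹ : GLk) : Mat) j j := fun i => by
    obtain ⟨j, hj⟩ := hchoose (τM i) τD fun e => by
      obtain ⟨j, -, hj⟩ := Finset.prod_eq_zero_iff.1
        ((hprod e ((e.1 : Mat) i i)).1 (Finset.prod_eq_zero (Finset.mem_univ i) (sub_self _)))
      exact ⟨j, Units.ext (sub_eq_zero.1 hj).symm⟩
    exact ⟨j, fun t ht => closure_minimal (t := {g : GLk | (g : Mat) i i = ((P * g * P⁻¹ : GLk) : Mat) j j})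
      (fun e he => congrArg Units.val (hj ⟨e, he⟩)) (hcl_eq i j) ht⟩
  have hρ : ∀ j, ∃ i, ∀ t ∈ T, (t : Mat) i i = ((P * t * P⁻¹ : GLk) : Mat) j j := fun j => by
    obtain ⟨i, hi⟩ := hchoose (τD j) τM fun e => by
      obtain ⟨i, -, hi⟩ := Finset.prod_eq_zero_iff.1
        ((hprod e (δE e j)).2 (Finset.prod_eq_zero (Finset.mem_univ j) (sub_self _)))
      exact ⟨i, Units.ext (sub_eq_zero.1 hi).symm⟩
    exact ⟨i, fun t ht => closure_minimal (t := {g : GLk | (g : Mat) i i = ((P * g * P⁻¹ : GLk) : Mat) j j})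
      (fun e he => (congrArg Units.val (hi ⟨e, he⟩)).symm) (hcl_eq i j) ht⟩
  choose ρ hρ using hρ
  choose σ hσ using hσ
  -- saturation of the relations of the family
  have hEsat : ∀ (m : ℕ) (a : Fin n → ℤ), m ≠ 0 → m • a ∈ rel δE → a ∈ rel δE := fun m a hm hma => by
    refine (mem_rel _).2 fun e => ?_
    obtain ⟨j, m', hm', rfl⟩ := Nat.exists_eq_pow_mul_and_not_dvd hm l hl.ne_one
    obtain ⟨h, hh⟩ := hdiv j e
    obtain ⟨s, hs⟩ := (hEM e.1 e.2).2
    have h1 : m' • pw (δE e) a = 0 := by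
      rw [← hh, map_pow, pw_pow, smul_smul, mul_comm, ← map_nsmul]
      exact (mem_rel _).1 hma h
    have h2 : (l ^ s) • pw (δE e) a = 0 := by
      rw [← pw_pow, ← map_pow, show e ^ l ^ s = 1 from Subtype.ext hs, map_one, pw_one]
    have hd := Nat.dvd_gcd (addOrderOf_dvd_of_nsmul_eq_zero h1) (addOrderOf_dvd_of_nsmul_eq_zero h2)
    rw [Nat.Coprime.gcd_eq_one (Nat.Coprime.pow_right _ ((hl.coprime_iff_not_dvd.2 hm').symm)), Nat.dvd_one,
      AddMonoid.addOrderOf_eq_one_iff] at hd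
    exact hd
  have hDpoly : ∀ (e : EG) (p : MvPolynomial (Fin n × Fin n) k),
      MvPolynomial.eval (fun i => (δE e i : k)) (backPoly P p) = MvPolynomial.eval (ent e.1) p :=
    fun e p => eval_backPoly P e.1 (δE e) (hδE e) p
  refine ⟨T, P, ρ, l, hl, hlk, hTM, isClosed_closure, isPreirreducible_iff_closure.2 ?_, hTcomm, fun t ht => ?_,
    (Subgroup.eq_bot_iff_forall _).2 ?_, fun m hm => ?_, fun U hU hUt => ?_⟩
  rotate_left
  · ext a b
    rcases eq_or_ne a b with rfl | hab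
    · rw [Matrix.diagonal_apply_eq, hρ a t ht]
    · rw [Matrix.diagonal_apply_ne _ hab]; exact hTD ht hab
  rotate_right
  · rw [isPreirreducible_iff_isClosed_union_isClosed]
    intro Z Z' hZ hZ' hsub
    obtain ⟨S, hS⟩ := isClosed_iff.1 hZ
    obtain ⟨S', hS'⟩ := isClosed_iff.1 hZ'
    by_cases hall : E ⊆ Z
    · exact Or.inl hall
    refine Or.inr fun e he => (hS' e).2 fun q hq => ?_
    obtain ⟨e0, he0, he0Z⟩ := Set.not_subset.1 hall
    obtain ⟨p, hp, hpe⟩ : ∃ p ∈ S, MvPolynomial.eval (ent e0) p ≠ 0 := by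
      by_contra! h
      exact he0Z ((hS e0).2 h)
    rcases forall_eval_eq_zero_or δE hEsat (backPoly P p) (backPoly P q) (fun g => by
      rw [hDpoly, hDpoly]
      rcases hsub g.2 with h | h
      · exact Or.inl ((hS g.1).1 h p hp)
      · exact Or.inr ((hS' g.1).1 h q hq)) with h | h
    · exact absurd ((hDpoly ⟨e0, he0⟩ p).symm.trans (h ⟨e0, he0⟩)) hpe
    · exact (hDpoly ⟨e, he⟩ q).symm.trans (h ⟨e, he⟩)
  · rintro t ⟨ht, htl⟩
    have hu := (isUnip_of_mem_lay htl).conj P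
    have hd := hTD ht
    set g := P * t * P⁻¹ with hg
    have hg1 := (isUnip_iff_mem_lay (hDU t hd)).1 hu
    have : g = 1 := Units.ext (by
      ext a b
      rcases eq_or_ne a b with rfl | hab
      · rw [Units.val_one, Matrix.one_apply_eq]; exact (mem_lay_one_iff.1 hg1).2 a
      · rw [Units.val_one, Matrix.one_apply_ne hab]; exact hd hab)
    rwa [hg, mul_inv_eq_one, mul_eq_left] at this
  · let ψ : (Fin n → ℤ) →+ (Fin n → ℤ) := ∑ i, (zmultiplesHom (Fin n → ℤ) (Pi.single (σ i) 1)).comp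
      (Pi.evalAddMonoidHom (fun _ : Fin n => ℤ) i)
    have hψ : ∀ i, ψ (Pi.single i 1) = Pi.single (σ i) 1 := fun i => by
      simp [ψ, AddMonoidHom.finsetSum_apply, zmultiplesHom_apply, Pi.single_apply, Finset.sum_ite_eq']
    have hpψ : ∀ δ : Fin n → kˣ, (pw δ).comp ψ = pw (fun i => δ (σ i)) := fun δ =>
      (pw_zsmul_eq (fun i => δ (σ i)) ((pw δ).comp ψ) fun i => by simp [hψ, pw_single]).symm
    let f0 := (QuotientAddGroup.mk' (rel δE)).comp ψ
    set δ0 := diagOn hM ⟨m, hm⟩ with hδ0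
    have hker : ∀ c ∈ f0.ker, pw δ0 c = 0 := fun c hc => by
      refine hin _ c ?_
      by_contra hcΛ
      obtain ⟨e, he⟩ := hsep c hcΛ
      refine he ?_
      have h1 : pw (δE e) (ψ c) = 0 := (mem_rel _).1 ((QuotientAddGroup.eq_zero_iff _).1 hc) e
      rw [← AddMonoidHom.comp_apply, hpψ] at h1
      rwa [show diagOn hM ⟨e.1, hEGM e.2⟩ = fun i => δE e (σ i) from funext fun i =>
        Units.ext (hσ i e.1 (subset_closure e.2))]
    let f1 := QuotientAddGroup.kerLift f0
    let g1 : (Fin n → ℤ) ⧸ f0.ker →+ Additive kˣ := QuotientAddGroup.lift _ (pw δ0) hker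
    letI : DivisibleBy (Additive kˣ) ℤ := divisibleByOfSMulRightSurj _ _ fun {z} hz x => by
      obtain ⟨r, hr⟩ := IsAlgClosed.exists_pow_nat_eq ((Additive.toMul x : kˣ) : k) (Int.natAbs_pos.2 hz)
      have hr0 : r ≠ 0 := fun h => by
        rw [h, zero_pow (Int.natAbs_ne_zero.2 hz)] at hr
        exact Units.ne_zero _ hr.symm
      rcases Int.natAbs_eq z with hz' | hz'
      · exact ⟨Additive.ofMul (Units.mk0 r hr0), Additive.toMul.injective (Units.ext (by
          show ((Units.mk0 r hr0 ^ z : kˣ) : k) = _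
          rw [hz', zpow_natCast]; simpa using hr))⟩
      · exact ⟨Additive.ofMul (Units.mk0 r hr0)⁻¹, Additive.toMul.injective (Units.ext (by
          show (((Units.mk0 r hr0)⁻¹ ^ z : kˣ) : k) = _
          rw [hz', inv_zpow, zpow_neg, inv_inv, zpow_natCast]; simpa using hr))⟩
    obtain ⟨h, hh⟩ := (Module.Baer.of_divisible (Additive kˣ)).extension_property_addMonoidHom f1
      (QuotientAddGroup.kerLift_injective f0) g1
    let δ : Fin n → kˣ := fun j => Additive.toMul (h (QuotientAddGroup.mk (Pi.single j 1)))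
    have hpw : pw δ = h.comp (QuotientAddGroup.mk' (rel δE)) := pw_zsmul_eq δ _ fun j => rfl
    have hδrel : ∀ a ∈ rel δE, pw δ a = 0 := fun a ha => by
      rw [hpw]; simp [(QuotientAddGroup.eq_zero_iff a).2 ha]
    let t : GLk := P⁻¹ * Matrix.GeneralLinearGroup.mkOfDetNeZero (Matrix.diagonal fun i => (δ i : k))
      (by rw [Matrix.det_diagonal]; exact Finset.prod_ne_zero_iff.2 fun i _ => Units.ne_zero _) * P
    have htP : ((P * t * P⁻¹ : GLk) : Mat) = Matrix.diagonal fun i => (δ i : k) := by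
      rw [show P * t * P⁻¹ = Matrix.GeneralLinearGroup.mkOfDetNeZero (Matrix.diagonal fun i => (δ i : k))
        (by rw [Matrix.det_diagonal]; exact Finset.prod_ne_zero_iff.2 fun i _ => Units.ne_zero _) by
        simp only [t]; group]
      rfl
    have htT : t ∈ T := by
      obtain ⟨S, hS⟩ := isClosed_iff.1 (isClosed_closure (s := E))
      refine (hS t).2 fun p hp => ?_
      rw [← eval_backPoly P t δ htP p]
      exact eval_eq_zero_of_rel δE _ (fun e => (hDpoly e p).trans ((hS e.1).1 (subset_closure e.2) p hp)) δ hδrel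
    refine ⟨t, htT, mem_lay_one_iff.2 ⟨(upper : Subgroup GLk).mul_mem
      ((upper : Subgroup GLk).inv_mem (hM (hTM htT))) (hM hm), fun i => ?_⟩⟩
    have h1 : diagOn hM ⟨t, hTM htT⟩ = δ0 := funext fun i => by
      refine Units.ext ?_
      rw [diagOn_apply, hσ i t htT, htP, Matrix.diagonal_apply_eq]
      have h2 : h (f1 (QuotientAddGroup.mk (Pi.single i 1))) = g1 (QuotientAddGroup.mk (Pi.single i 1)) :=
        DFunLike.congr_fun hh _
      have h3 : f1 (QuotientAddGroup.mk (Pi.single i 1)) = QuotientAddGroup.mk (Pi.single (σ i) 1) := by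
        simp [f1, f0, hψ]
      rw [h3] at h2
      exact congrArg (fun x : Additive kˣ => ((Additive.toMul x : kˣ) : k)) (h2.trans (pw_single δ0 i))
    have h4 : diagOn hM (⟨t, hTM htT⟩⁻¹ * ⟨m, hm⟩) = 1 := by rw [map_mul, map_inv, h1, ← hδ0, inv_mul_cancel]
    have h5 := congrArg (fun x : Fin n → kˣ => (x i : k)) h4
    simpa only [diagOn_apply, Pi.one_apply, Units.val_one, Subgroup.coe_mul, Subgroup.coe_inv] using h5
  · exact closure_minimal (fun g hg => hUt g (subset_closure hg) (hEM g hg).2) hU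

end Groth.Agent.MatGrp21
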