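import Groth.Agent.Lib.MatGrp21.Unip
import Mathlib.LinearAlgebra.Matrix.Block
import Mathlib.Tactic.NoncommRing
import Mathlib.Tactic.LinearCombination

/-!
# Upper triangular invertible matrices and the layers of their unipotent part
-/

set_option autoImplicit false
universe u

noncomputable section

namespace Groth.Agent.MatGrp21

variable {k : Type u} [Field k] {n : ℕ}

local notation "GLk" => GL (Fin n) k
local notation "Mat" => Matrix (Fin n) (Fin n) k

/-- The entries `(a, b)` with `b < a + i` vanish. -/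
def Shift (i : ℕ) (M : Mat) : Prop := ∀ a b : Fin n, (b : ℕ) < a + i → M a b = 0

theorem Shift.mul {i j : ℕ} {M N : Mat} (hM : Shift i M) (hN : Shift j N) : Shift (i + j) (M * N) := by
  intro a b hab
  rw [Matrix.mul_apply]
  refine Finset.sum_eq_zero fun c _ => ?_
  by_cases hc : (c : ℕ) < a + i
  · rw [hM a c hc, zero_mul]
  · rw [hN c b (by omega), mul_zero]

theorem Shift.add {i : ℕ} {M N : Mat} (hM : Shift i M) (hN : Shift i N) : Shift i (M + N) := fun a b h => by
  rw [Matrix.add_apply, hM a b h, hN a b h, add_zero]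

theorem Shift.neg {i : ℕ} {M : Mat} (hM : Shift i M) : Shift i (-M) := fun a b h => by
  rw [Matrix.neg_apply, hM a b h, neg_zero]

theorem Shift.mono {i j : ℕ} (hij : i ≤ j) {M : Mat} (hM : Shift j M) : Shift i M := fun a b h =>
  hM a b (by omega)

theorem shift_one : Shift 0 (1 : Mat) := fun a b h => Matrix.one_apply_ne (by rintro rfl; omega)

theorem shift_of_le {i : ℕ} (hi : n ≤ i) {M : Mat} (hM : Shift i M) : M = 0 := by
  ext a b
  exact hM a b (by omega)

theorem Shift.pow {i : ℕ} {M : Mat} (hM : Shift i M) : ∀ m : ℕ, Shift (m * i) (M ^ m)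
  | 0 => by rw [pow_zero, zero_mul]; exact shift_one
  | m + 1 => by rw [pow_succ, add_mul, one_mul]; exact (Shift.pow hM m).mul hM

theorem shift_zero_iff (M : Mat) : Shift 0 M ↔ M.BlockTriangular id :=
  ⟨fun h a b hab => h a b (by simpa using hab), fun h a b hab => h (by simpa using hab)⟩

/-- The invertible upper triangular matrices. -/
def upper : Subgroup GLk where
  carrier := {g | Shift 0 (g : Mat)}
  mul_mem' {g h} hg hh := by
    show Shift 0 ((g * h : GLk) : Mat)
    rw [Units.val_mul]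
    exact hg.mul hh
  one_mem' := shift_one
  inv_mem' {g} hg := by
    show Shift 0 ((g⁻¹ : GLk) : Mat)
    rw [Matrix.coe_units_inv, shift_zero_iff]
    haveI : Invertible (g : Mat) := g.invertible
    exact Matrix.blockTriangular_inv_of_blockTriangular ((shift_zero_iff _).1 hg)

theorem mem_upper {g : GLk} : g ∈ upper ↔ Shift 0 (g : Mat) := Iff.rfl

theorem isClosed_setOf_shift (i : ℕ) (c : Mat) : IsClosed {g : GLk | Shift i ((g : Mat) - c)} := by
  have : {g : GLk | Shift i ((g : Mat) - c)} = ⋂ (a : Fin n) (b : Fin n) (_ : (b : ℕ) < a + i),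
      {g : GLk | (g : Mat) a b = c a b} := by
    ext g
    simp [Shift, Matrix.sub_apply, sub_eq_zero]
  rw [this]
  exact isClosed_iInter fun a => isClosed_iInter fun b => isClosed_iInter fun _ =>
    isClosed_eq (isReg_entry a b) (isReg_const _)

theorem isClosed_upper : IsClosed ((upper : Subgroup GLk) : Set GLk) := by
  convert isClosed_setOf_shift (k := k) (n := n) 0 0 using 1
  ext g
  simp [upper]

theorem diag_mul {g h : GLk} (hg : g ∈ upper) (hh : h ∈ upper) (a : Fin n) :
    ((g * h : GLk) : Mat) a a = (g : Mat) a a * (h : Mat) a a := by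
  rw [Units.val_mul, Matrix.mul_apply]
  refine (Finset.sum_eq_single a (fun c _ hc => ?_) (fun h => absurd (Finset.mem_univ a) h))
  rcases lt_or_gt_of_ne hc with h' | h'
  · rw [hg a c (by simpa using h'), zero_mul]
  · rw [hh c a (by simpa using h'), mul_zero]

theorem diag_ne_zero {g : GLk} (hg : g ∈ upper) (a : Fin n) : (g : Mat) a a ≠ 0 := fun h => by
  have := diag_mul hg (upper.inv_mem hg) a
  rw [mul_inv_cancel, h, zero_mul, Units.val_one, Matrix.one_apply_eq] at this
  exact one_ne_zero this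

/-- The `i`-th layer of the unipotent upper triangular matrices. -/
def lay (i : ℕ) : Subgroup GLk where
  carrier := {g | g ∈ upper ∧ Shift i ((g : Mat) - 1)}
  mul_mem' {g h} hg hh := by
    refine ⟨upper.mul_mem hg.1 hh.1, ?_⟩
    rw [Units.val_mul, show (g : Mat) * h - 1 = ((g : Mat) - 1) + (g : Mat) * ((h : Mat) - 1) by noncomm_ring]
    exact hg.2.add ((zero_add i) ▸ hg.1.mul hh.2)
  one_mem' := ⟨upper.one_mem, fun a b _ => by simp⟩
  inv_mem' {g} hg := by
    refine ⟨upper.inv_mem hg.1, ?_⟩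
    rw [show ((g⁻¹ : GLk) : Mat) - 1 = -(((g⁻¹ : GLk) : Mat) * ((g : Mat) - 1)) by
      rw [mul_sub, Units.inv_mul, mul_one, neg_sub]]
    exact ((zero_add i) ▸ (upper.inv_mem hg.1).mul hg.2 : Shift i _).neg

theorem mem_lay {i : ℕ} {g : GLk} : g ∈ lay i ↔ g ∈ upper ∧ Shift i ((g : Mat) - 1) := Iff.rfl

theorem lay_anti {i j : ℕ} (h : i ≤ j) : (lay j : Subgroup GLk) ≤ lay i := fun _ hg => ⟨hg.1, hg.2.mono h⟩

theorem lay_eq_bot {i : ℕ} (hi : n ≤ i) : (lay i : Subgroup GLk) = ⊥ :=
  (Subgroup.eq_bot_iff_forall _).2 fun g hg => Units.ext (by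
    rw [Units.val_one, ← sub_eq_zero]; exact shift_of_le hi hg.2)

theorem isClosed_lay (i : ℕ) : IsClosed ((lay i : Subgroup GLk) : Set GLk) :=
  isClosed_upper.inter (isClosed_setOf_shift i 1)

theorem isUnip_of_mem_lay {g : GLk} (hg : g ∈ lay 1) : IsUnip g :=
  shift_of_le (i := n * 1) (by omega) (hg.2.pow n)

theorem mem_lay_one_iff {g : GLk} : g ∈ lay 1 ↔ g ∈ upper ∧ ∀ a, (g : Mat) a a = 1 := by
  refine ⟨fun h => ⟨h.1, fun a => sub_eq_zero.1 ?_⟩, fun h => ⟨h.1, fun a b hab => ?_⟩⟩
  · simpa using h.2 a a (by omega)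
  · rcases eq_or_ne a b with rfl | hne
    · simp [h.2]
    · rw [Matrix.sub_apply, Matrix.one_apply_ne hne, sub_zero]
      exact h.1 a b (by have : (a : ℕ) ≠ b := fun e => hne (Fin.ext e); omega)

/-- An upper triangular matrix is unipotent when its diagonal is trivial. -/
theorem isUnip_iff_mem_lay {g : GLk} (hg : g ∈ upper) : IsUnip g ↔ g ∈ lay 1 := by
  refine ⟨fun h => mem_lay_one_iff.2 ⟨hg, fun a => ?_⟩, isUnip_of_mem_lay⟩
  set M : Mat := (g : Mat) - 1
  have hM : Shift 0 M := by
    show Shift 0 ((g : Mat) - 1)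
    rw [sub_eq_add_neg]
    exact hg.add shift_one.neg
  have key : ∀ m : ℕ, (M ^ m) a a = M a a ^ m := by
    intro m
    induction m with
    | zero => simp
    | succ m ih =>
      rw [pow_succ, Matrix.mul_apply, pow_succ, ← ih]
      refine Finset.sum_eq_single a (fun c _ hc => ?_) (fun h => absurd (Finset.mem_univ a) h)
      rcases lt_or_gt_of_ne hc with h' | h'
      · rw [((Nat.mul_zero m) ▸ hM.pow m : Shift 0 (M ^ m)) a c (by simpa using h'), zero_mul]
      · rw [hM c a (by simpa using h'), mul_zero]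
  have : M a a ^ n = 0 := by
    rw [← key]
    show ((((g : Mat) - 1) ^ n : Mat)) a a = 0
    rw [(show ((g : Mat) - 1) ^ n = 0 from h), Matrix.zero_apply]
  have h0 := pow_eq_zero_iff (a := M a a) (n := n) (by have := a.isLt; omega) |>.1 this
  simpa [M, sub_eq_zero] using h0

/-- The `i`-th superdiagonal. -/
def phi (i : ℕ) (g : GLk) : Fin n → k := fun a => if h : (a : ℕ) + i < n then (g : Mat) a ⟨a + i, h⟩ else 0

theorem phi_mul {i : ℕ} (hi : 1 ≤ i) {g h : GLk} (hg : g ∈ lay i) (hh : h ∈ lay i) :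
    phi i (g * h) = phi i g + phi i h := by
  funext a
  simp only [phi, Pi.add_apply]
  split
  · next hlt =>
    set b : Fin n := ⟨(a : ℕ) + i, hlt⟩ with hb
    have hab : a ≠ b := fun e => by have := congrArg Fin.val e; simp [hb] at this; omega
    have h0 := (hg.2.mul hh.2) a b (by simp [hb]; omega)
    rw [show ((g : Mat) - 1) * ((h : Mat) - 1) = (g : Mat) * h - g - h + 1 by noncomm_ring] at h0
    simp only [Matrix.add_apply, Matrix.sub_apply, Matrix.one_apply_ne hab, add_zero] at h0
    rw [Units.val_mul]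
    linear_combination h0
  · simp

theorem phi_eq_zero_iff {i : ℕ} (hi : 1 ≤ i) {g : GLk} (hg : g ∈ lay i) : phi i g = 0 ↔ g ∈ lay (i + 1) := by
  refine ⟨fun h => ⟨hg.1, fun a b hab => ?_⟩, fun h => funext fun a => ?_⟩
  · by_cases hlt : (b : ℕ) < a + i
    · exact hg.2 a b hlt
    have hb : (b : ℕ) = a + i := by omega
    have := congrFun h a
    simp only [phi, dif_pos (show (a : ℕ) + i < n by omega), Pi.zero_apply] at this
    rw [show (⟨(a : ℕ) + i, by omega⟩ : Fin n) = b from Fin.ext hb.symm] at this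
    rw [Matrix.sub_apply, this, Matrix.one_apply_ne (fun e => by subst e; omega), sub_zero]
  · simp only [phi, Pi.zero_apply]
    split
    · next hlt =>
      have := h.2 a ⟨a + i, hlt⟩ (by simp)
      rwa [Matrix.sub_apply, Matrix.one_apply_ne (fun e => by have := congrArg Fin.val e; simp at this; omega),
        sub_zero] at this
    · rfl

/-- The scalar by which conjugation by an upper triangular matrix acts on a superdiagonal. -/
def scal (i : ℕ) (s : GLk) (a : Fin n) : k :=
  if h : (a : ℕ) + i < n then (s : Mat) a a * ((s⁻¹ : GLk) : Mat) ⟨a + i, h⟩ ⟨a + i, h⟩ else 1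

theorem conj_mem_lay {i : ℕ} {s g : GLk} (hs : s ∈ upper) (hg : g ∈ lay i) : s * g * s⁻¹ ∈ lay i := by
  refine ⟨upper.mul_mem (upper.mul_mem hs hg.1) (upper.inv_mem hs), ?_⟩
  rw [show ((s * g * s⁻¹ : GLk) : Mat) - 1 = (s : Mat) * ((g : Mat) - 1) * ((s⁻¹ : GLk) : Mat) by
    rw [mul_sub, sub_mul, mul_one, Units.val_mul, Units.val_mul, Units.mul_inv]]
  exact (zero_add i) ▸ (add_zero (0 + i)) ▸ (hs.mul hg.2).mul (upper.inv_mem hs)

theorem phi_conj {i : ℕ} (hi : 1 ≤ i) {s g : GLk} (hs : s ∈ upper) (hg : g ∈ lay i) :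
    phi i (s * g * s⁻¹) = scal i s * phi i g := by
  funext a
  simp only [phi, scal, Pi.mul_apply]
  split
  · next hlt =>
    set b : Fin n := ⟨(a : ℕ) + i, hlt⟩ with hb
    have hbv : (b : ℕ) = a + i := by rw [hb]
    have hab : a ≠ b := fun e => by have := congrArg Fin.val e; omega
    have e1 : ((s * g * s⁻¹ : GLk) : Mat) a b = ((s : Mat) * ((g : Mat) - 1) * ((s⁻¹ : GLk) : Mat)) a b := by
      rw [mul_sub, sub_mul, mul_one, Units.mul_inv, Matrix.sub_apply, Matrix.one_apply_ne hab, sub_zero,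
        Units.val_mul, Units.val_mul]
    have e2 : (g : Mat) a b = ((g : Mat) - 1) a b := by rw [Matrix.sub_apply, Matrix.one_apply_ne hab, sub_zero]
    rw [e1, e2, Matrix.mul_apply, Finset.sum_eq_single b, Matrix.mul_apply, Finset.sum_eq_single a]
    · ring
    · intro c _ hc
      rcases lt_or_gt_of_ne hc with h' | h'
      · rw [hs a c (by simpa using h'), zero_mul]
      · rw [hg.2 c b (by rw [hbv]; have : (a : ℕ) < c := h'; omega), mul_zero]
    · exact fun h => absurd (Finset.mem_univ a) h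
    · intro c _ hc
      rcases lt_or_gt_of_ne hc with h' | h'
      · have hsg : Shift i ((s : Mat) * ((g : Mat) - 1)) := (zero_add i) ▸ hs.mul hg.2
        rw [hsg a c (by have : (c : ℕ) < b := h'; omega), zero_mul]
      · rw [upper.inv_mem hs c b (by simpa using h'), mul_zero]
    · exact fun h => absurd (Finset.mem_univ b) h
  · simp

end Groth.Agent.MatGrp21
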