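import Groth.Agent.Lib.MatGrp21.Zariski
import Mathlib.RingTheory.Polynomial.Pochhammer
import Mathlib.Algebra.CharP.Lemmas
import Mathlib.LinearAlgebra.Matrix.Charpoly.Coeff
import Mathlib.Data.Nat.Choose.Basic
import Mathlib.LinearAlgebra.Matrix.CharP
import Mathlib.GroupTheory.OrderOfElement

/-!
# Roots of unipotent matrices in Zariski closed subgroups
-/

set_option autoImplicit false
universe u

open Polynomial

noncomputable section

namespace Groth.Agent.MatGrp21

variable {k : Type u} [Field k] {n : ℕ}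

local notation "GLk" => GL (Fin n) k
local notation "Mat" => Matrix (Fin n) (Fin n) k

/-- A unipotent invertible matrix. -/
def IsUnip (g : GLk) : Prop := ((g : Mat) - 1) ^ n = 0

theorem isUnip_iff_isNilpotent (g : GLk) : IsUnip g ↔ IsNilpotent ((g : Mat) - 1) := by
  refine ⟨fun h => ⟨n, h⟩, fun h => ?_⟩
  have hc : ((g : Mat) - 1).charpoly = X ^ n := by
    have := Matrix.isNilpotent_charpoly_sub_pow_of_isNilpotent h
    rw [isNilpotent_iff_eq_zero, sub_eq_zero, Fintype.card_fin] at this
    exact this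
  have := Matrix.aeval_self_charpoly ((g : Mat) - 1)
  rwa [hc, map_pow, aeval_X] at this

theorem isUnip_one : IsUnip (1 : GLk) := by
  rw [isUnip_iff_isNilpotent, Units.val_one, sub_self]
  exact IsNilpotent.zero

theorem IsUnip.conj {g : GLk} (h : IsUnip g) (x : GLk) : IsUnip (x * g * x⁻¹) := by
  have e : ((x * g * x⁻¹ : GLk) : Mat) - 1 = (x : Mat) * ((g : Mat) - 1) * ((x⁻¹ : GLk) : Mat) := by
    rw [mul_sub, sub_mul, mul_one, Units.val_mul, Units.val_mul, Units.mul_inv]
  have hpow : ∀ m : ℕ, (((x * g * x⁻¹ : GLk) : Mat) - 1) ^ m = (x : Mat) * ((g : Mat) - 1) ^ m * ((x⁻¹ : GLk) : Mat) := by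
    intro m
    induction m with
    | zero => rw [pow_zero, pow_zero, mul_one, Units.mul_inv]
    | succ m ih =>
      rw [pow_succ, ih, e, pow_succ]
      simp only [mul_assoc, Units.inv_mul_cancel_left]
  rw [IsUnip] at h ⊢
  rw [hpow, h, mul_zero, zero_mul]

/-- The matrix of polynomials interpolating the powers of a unipotent matrix. -/
def powPoly (g : GLk) : Matrix (Fin n) (Fin n) k[X] := fun a b =>
  ∑ j ∈ Finset.range n, C ((((g : Mat) - 1) ^ j) a b) * (C ((Nat.factorial j : k)⁻¹) * descPochhammer k j)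

/-- The powers with exponent in the field. -/
def powAt (g : GLk) (t : k) : Mat := (powPoly g).map (eval t)

theorem powAt_eq (g : GLk) (t : k) :
    powAt g t = ∑ j ∈ Finset.range n,
      ((Nat.factorial j : k)⁻¹ * (descPochhammer k j).eval t) • ((g : Mat) - 1) ^ j := by
  ext a b
  simp only [powAt, powPoly, Matrix.map_apply, eval_finsetSum, Matrix.sum_apply, Matrix.smul_apply, smul_eq_mul,
    eval_mul, eval_C]
  exact Finset.sum_congr rfl fun j _ => mul_comm _ _

theorem powAt_nat [CharZero k] {g : GLk} (hg : IsUnip g) (m : ℕ) : powAt g (m : k) = ((g ^ m : GLk) : Mat) := by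
  set u := (g : Mat) - 1 with hu
  have hcoef : ∀ j, (Nat.factorial j : k)⁻¹ * (descPochhammer k j).eval (m : k) = (m.choose j : k) := fun j => by
    rw [descPochhammer_eval_eq_descFactorial, Nat.descFactorial_eq_factorial_mul_choose, Nat.cast_mul, ← mul_assoc,
      inv_mul_cancel₀ (Nat.cast_ne_zero.2 (Nat.factorial_ne_zero j)), one_mul]
  rw [powAt_eq, Units.val_pow_eq_pow_val, show (g : Mat) = u + 1 by rw [hu, sub_add_cancel],
    (Commute.one_right u).add_pow]
  simp only [one_pow, mul_one]
  rw [add_sub_cancel_right]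
  have h1 : ∑ j ∈ Finset.range n, ((Nat.factorial j : k)⁻¹ * (descPochhammer k j).eval (m : k)) • u ^ j =
      ∑ j ∈ Finset.range (m + 1 + n), (m.choose j : k) • u ^ j := by
    simp only [hcoef]
    refine Finset.sum_subset (Finset.range_mono (by omega)) fun j _ hj => ?_
    have hnj : n ≤ j := by simpa using hj
    rw [← Nat.add_sub_cancel' hnj, pow_add, (show u ^ n = 0 from hg), zero_mul, smul_zero]
  have h2 : ∑ j ∈ Finset.range (m + 1), u ^ j * (m.choose j : Mat) =
      ∑ j ∈ Finset.range (m + 1 + n), (m.choose j : k) • u ^ j := by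
    refine (Finset.sum_congr rfl fun j _ => ?_).trans
      (Finset.sum_subset (Finset.range_mono (Nat.le_add_right _ _)) fun j _ hj => ?_)
    · rw [← nsmul_eq_mul', Nat.cast_smul_eq_nsmul]
    · have : m < j := by simpa using hj
      rw [Nat.choose_eq_zero_of_lt this, Nat.cast_zero, zero_smul]
  rw [h1, h2]

theorem forall_of_nat [CharZero k] (p : k[X]) (h : ∀ m : ℕ, p.eval (m : k) = 0) : p = 0 :=
  eq_zero_of_infinite_isRoot p (Set.infinite_of_injective_forall_mem (f := fun m : ℕ => (m : k))
    Nat.cast_injective (fun m => h m))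

theorem det_powAt [CharZero k] {g : GLk} (hg : IsUnip g) (t : k) : (powAt g t).det = 1 := by
  have key : (powPoly g).det - 1 = 0 := forall_of_nat _ fun m => by
    have hgd : (g : Mat).det = 1 := by
      have hnil : IsNilpotent ((g : Mat) - 1) := ⟨n, hg⟩
      have hc : ((g : Mat) - 1).charpoly = X ^ n := by
        have := Matrix.isNilpotent_charpoly_sub_pow_of_isNilpotent hnil
        rw [isNilpotent_iff_eq_zero, sub_eq_zero, Fintype.card_fin] at this
        exact this
      have h1 := Matrix.eval_charpoly ((g : Mat) - 1) (-1)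
      rw [hc, eval_pow, eval_X] at h1
      have h2 : Matrix.scalar (Fin n) (-1 : k) - ((g : Mat) - 1) = -(g : Mat) := by
        rw [map_neg, map_one]; abel
      rw [h2, Matrix.det_neg, Fintype.card_fin] at h1
      exact (mul_left_cancel₀ (pow_ne_zero n (by norm_num : (-1 : k) ≠ 0)) (h1.symm.trans (mul_one _).symm))
    rw [eval_sub, eval_one, sub_eq_zero, ← coe_evalRingHom, RingHom.map_det]
    show (powAt g (m : k)).det = 1
    rw [powAt_nat hg, Units.val_pow_eq_pow_val, Matrix.det_pow, hgd, one_pow]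
  have := congrArg (eval t) key
  rw [eval_sub, eval_one, eval_zero, sub_eq_zero, ← coe_evalRingHom, RingHom.map_det] at this
  exact this

/-- An identity between polynomial matrices holds once it holds at the natural numbers. -/
theorem mat_forall_of_nat [CharZero k] (P Q : Matrix (Fin n) (Fin n) k[X])
    (h : ∀ m : ℕ, P.map (eval (m : k)) = Q.map (eval (m : k))) (t : k) : P.map (eval t) = Q.map (eval t) := by
  have : P = Q := by
    ext1 a b
    refine sub_eq_zero.1 (forall_of_nat _ fun m => ?_)
    rw [eval_sub, sub_eq_zero]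
    exact congrFun (congrFun (h m) a) b
  rw [this]

theorem powAt_mul_pow [CharZero k] {g : GLk} (hg : IsUnip g) (L : ℕ) (t : k) :
    powAt g t ^ L = powAt g ((L : k) * t) := by
  let P : Matrix (Fin n) (Fin n) k[X] := powPoly g ^ L
  let Q : Matrix (Fin n) (Fin n) k[X] := (powPoly g).map fun p => p.comp (C (L : k) * X)
  have hP : ∀ s : k, P.map (eval s) = powAt g s ^ L := fun s => by
    show (powPoly g ^ L).map (evalRingHom s) = _
    rw [← RingHom.mapMatrix_apply, map_pow]
    rfl
  have hQ : ∀ s : k, Q.map (eval s) = powAt g ((L : k) * s) := fun s => by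
    ext a b
    simp [Q, powAt, eval_comp]
  rw [← hP, ← hQ]
  refine mat_forall_of_nat P Q (fun m => ?_) t
  rw [hP, hQ, ← Nat.cast_mul, powAt_nat hg, powAt_nat hg]
  simp only [Units.val_pow_eq_pow_val, ← pow_mul, mul_comm L m]

/-- Every unipotent element of a closed subgroup has a unipotent root of each order invertible in the field. -/
theorem exists_root_charZero [CharZero k] {H : Subgroup GLk} (hH : IsClosed (H : Set GLk)) {g : GLk} (hgH : g ∈ H)
    (hg : IsUnip g) {L : ℕ} (hL : (L : k) ≠ 0) : ∃ h ∈ H, IsUnip h ∧ h ^ L = g := by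
  let P : k → GLk := fun t => Matrix.GeneralLinearGroup.mkOfDetNeZero (powAt g t) (by rw [det_powAt hg]; exact one_ne_zero)
  have hP : ∀ t, ((P t : GLk) : Mat) = powAt g t := fun t => rfl
  obtain ⟨S, hS⟩ := isClosed_iff.1 hH
  have hmem : ∀ t, P t ∈ H := fun t => (hS _).2 fun p hp => by
    let q : k[X] := MvPolynomial.eval₂ C (fun x => powPoly g x.1 x.2) p
    have hq : ∀ s, q.eval s = MvPolynomial.eval (ent (P s)) p := fun s => by
      show evalRingHom s (MvPolynomial.eval₂ C (fun x => powPoly g x.1 x.2) p) = _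
      rw [MvPolynomial.eval₂_comp_left,
        show (evalRingHom s).comp C = RingHom.id k from RingHom.ext fun c => by simp]
      rfl
    rw [← hq, forall_of_nat q fun m => ?_, eval_zero]
    rw [hq, show P (m : k) = g ^ m from Units.ext (powAt_nat hg m)]
    exact (hS _).1 (H.pow_mem hgH m) p hp
  refine ⟨P (L : k)⁻¹, hmem _, ?_, Units.ext ?_⟩
  · show (powAt g (L : k)⁻¹ - 1) ^ n = 0
    have key : ∀ s : k, ((powPoly g - 1) ^ n).map (eval s) = (powAt g s - 1) ^ n := fun s => by
      show (evalRingHom s).mapMatrix ((powPoly g - 1) ^ n) = _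
      rw [map_pow, map_sub, map_one]
      rfl
    rw [← key, mat_forall_of_nat _ 0 (fun m => ?_), Matrix.map_zero _ (eval_zero)]
    rw [key, Matrix.map_zero _ (eval_zero), powAt_nat hg, Units.val_pow_eq_pow_val]
    obtain ⟨c, hc⟩ : ((g : Mat) - 1) ∣ (g : Mat) ^ m - 1 := sub_one_dvd_pow_sub_one _ m
    have hcomm : Commute ((g : Mat) - 1) ((g : Mat) ^ m - 1) :=
      ((Commute.refl (g : Mat)).pow_right m |>.sub_right (Commute.one_right _)).sub_left (Commute.one_left _)
    have hgeom := geom_sum_mul (g : Mat) m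
    rw [← hgeom, Commute.mul_pow]
    · rw [(show ((g : Mat) - 1) ^ n = 0 from hg), mul_zero]
    · exact (Commute.sum_left _ _ _ fun i _ => ((Commute.refl (g : Mat)).pow_left i).sub_right (Commute.one_right _))
  · rw [Units.val_pow_eq_pow_val, hP, powAt_mul_pow hg, mul_inv_cancel₀ hL, ← Nat.cast_one, powAt_nat hg, pow_one]

theorem pow_ringChar_pow {g : GLk} (hg : IsUnip g) (p : ℕ) [hp : Fact p.Prime] [CharP k p] : g ^ p ^ n = 1 := by
  refine Units.ext ?_
  rw [Units.val_pow_eq_pow_val, Units.val_one]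
  rcases Nat.eq_zero_or_pos n with rfl | hn
  · exact Subsingleton.elim _ _
  haveI : Nonempty (Fin n) := ⟨⟨0, hn⟩⟩
  have hle : n ≤ p ^ n := (Nat.lt_pow_self hp.out.one_lt).le
  rw [show (g : Mat) = ((g : Mat) - 1) + 1 by rw [sub_add_cancel], add_pow_char_pow_of_commute p _ (Commute.one_right _),
    one_pow, ← Nat.add_sub_cancel' hle, pow_add, (show ((g : Mat) - 1) ^ n = 0 from hg), zero_mul, zero_add]

/-- Every unipotent element of a closed subgroup has a unipotent root of each order invertible in the field. -/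
theorem exists_root {H : Subgroup GLk} (hH : IsClosed (H : Set GLk)) {g : GLk} (hgH : g ∈ H)
    (hg : IsUnip g) {L : ℕ} (hL : (L : k) ≠ 0) : ∃ h ∈ H, IsUnip h ∧ h ^ L = g := by
  obtain ⟨p, hp⟩ := CharP.exists k
  rcases CharP.char_is_prime_or_zero k p with hpp | rfl
  · haveI := Fact.mk hpp
    have hcop : Nat.Coprime L (p ^ n) := by
      refine Nat.Coprime.pow_right _ (Nat.Coprime.symm (hpp.coprime_iff_not_dvd.2 fun hdvd => hL ?_))
      exact (CharP.cast_eq_zero_iff k p L).2 hdvd
    obtain ⟨a, ha⟩ : ∃ a : ℕ, (g ^ L) ^ a = g :=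
      exists_pow_eq_self_of_coprime
        (hcop.coprime_dvd_right (orderOf_dvd_of_pow_eq_one (pow_ringChar_pow hg p)))
    refine ⟨g ^ a, H.pow_mem hgH a, ?_, ?_⟩
    · rw [isUnip_iff_isNilpotent, Units.val_pow_eq_pow_val, ← geom_sum_mul]
      exact Commute.isNilpotent_mul_left
        (Commute.sum_left _ _ _ fun i _ => ((Commute.refl (g : Mat)).pow_left i).sub_right (Commute.one_right _)) ⟨n, hg⟩
    · rw [← pow_mul, mul_comm, pow_mul, ha]
  · haveI : CharZero k := CharP.charP_to_charZero k
    exact exists_root_charZero hH hgH hg hL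

theorem coprime_pow_ringChar (p : ℕ) [hp : Fact p.Prime] [CharP k p] {L : ℕ} (hL : (L : k) ≠ 0) (m : ℕ) :
    Nat.Coprime L (p ^ m) := by
  refine Nat.Coprime.pow_right _ (Nat.Coprime.symm (hp.out.coprime_iff_not_dvd.2 fun hdvd => hL ?_))
  exact (CharP.cast_eq_zero_iff k p L).2 hdvd

/-- Unipotent roots are unique. -/
theorem root_unique {x y : GLk} (hx : IsUnip x) (hy : IsUnip y) {L : ℕ} (hL : (L : k) ≠ 0) (h : x ^ L = y ^ L) :
    x = y := by
  obtain ⟨p, hp⟩ := CharP.exists k
  rcases CharP.char_is_prime_or_zero k p with hpp | rfl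
  · have := Fact.mk hpp
    have hxy : (x, y) ^ p ^ n = 1 := Prod.ext (pow_ringChar_pow hx p) (pow_ringChar_pow hy p)
    obtain ⟨a, ha⟩ := exists_pow_eq_self_of_coprime
      ((coprime_pow_ringChar (k := k) p hL n).coprime_dvd_right (orderOf_dvd_of_pow_eq_one hxy))
    have h1 := congrArg Prod.fst ha
    have h2 := congrArg Prod.snd ha
    simp only [Prod.pow_fst, Prod.pow_snd] at h1 h2
    rw [← h1, ← h2, h]
  · have : CharZero k := CharP.charP_to_charZero k
    have hxL : IsUnip (x ^ L) := by
      rw [isUnip_iff_isNilpotent, Units.val_pow_eq_pow_val, ← geom_sum_mul]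
      exact Commute.isNilpotent_mul_left
        (Commute.sum_left _ _ _ fun i _ => ((Commute.refl (x : Mat)).pow_left i).sub_right (Commute.one_right _)) ⟨n, hx⟩
    have key : ∀ {z : GLk}, IsUnip z → z ^ L = x ^ L → (z : Mat) = powAt (x ^ L) (L : k)⁻¹ := fun {z} hz hzL => by
      let Q : Matrix (Fin n) (Fin n) k[X] := (powPoly z).map fun p => p.comp (C (L : k) * X)
      have hQ : ∀ s : k, Q.map (eval s) = powAt z ((L : k) * s) := fun s => by
        ext a b
        simp [Q, powAt, eval_comp]
      have := mat_forall_of_nat Q (powPoly (x ^ L)) (fun m => by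
        rw [hQ, ← Nat.cast_mul, powAt_nat hz, pow_mul, hzL]
        exact (powAt_nat hxL m).symm) (L : k)⁻¹
      rw [hQ, mul_inv_cancel₀ hL, ← Nat.cast_one, powAt_nat hz, pow_one] at this
      exact this
    exact Units.ext ((key hx rfl).trans (key hy h.symm).symm)

/-- The powers with exponent in the field stay in every closed subgroup containing the element. -/
theorem exists_powAt_mem [CharZero k] {H : Subgroup GLk} (hH : IsClosed (H : Set GLk)) {g : GLk} (hgH : g ∈ H)
    (hg : IsUnip g) (t : k) : ∃ h ∈ H, (h : Mat) = powAt g t := by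
  let P : k → GLk := fun t => Matrix.GeneralLinearGroup.mkOfDetNeZero (powAt g t) (by rw [det_powAt hg]; exact one_ne_zero)
  refine ⟨P t, ?_, rfl⟩
  obtain ⟨S, hS⟩ := isClosed_iff.1 hH
  refine (hS _).2 fun p hp => ?_
  let q : k[X] := MvPolynomial.eval₂ C (fun x => powPoly g x.1 x.2) p
  have hq : ∀ s, q.eval s = MvPolynomial.eval (ent (P s)) p := fun s => by
    show evalRingHom s (MvPolynomial.eval₂ C (fun x => powPoly g x.1 x.2) p) = _
    rw [MvPolynomial.eval₂_comp_left,
      show (evalRingHom s).comp C = RingHom.id k from RingHom.ext fun c => by simp]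
    rfl
  rw [← hq, forall_of_nat q fun m => ?_, eval_zero]
  rw [hq, show P (m : k) = g ^ m from Units.ext (powAt_nat hg m)]
  exact (hS _).1 (H.pow_mem hgH m) p hp

end Groth.Agent.MatGrp21
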