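import Mathlib.RingTheory.Spectrum.Prime.Noetherian
import Mathlib.RingTheory.Polynomial.Basic
import Mathlib.LinearAlgebra.Matrix.GeneralLinearGroup.Defs
import Mathlib.LinearAlgebra.Matrix.NonsingularInverse
import Mathlib.Topology.Irreducible
import Mathlib.Topology.NoetherianSpace

/-!
# The Zariski topology on the invertible matrices over a field
-/

set_option autoImplicit false
universe u

open TopologicalSpace MvPolynomial

noncomputable section

namespace Groth.Agent.MatGrp21

variable {k : Type u} [Field k] {n : ℕ}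

local notation "GLk" => GL (Fin n) k

/-- The matrix entries of an invertible matrix. -/
def ent (g : GLk) : Fin n × Fin n → k := fun p => (g : Matrix (Fin n) (Fin n) k) p.1 p.2

/-- The point of the spectrum of the polynomial ring given by an invertible matrix. -/
def point (g : GLk) : PrimeSpectrum (MvPolynomial (Fin n × Fin n) k) :=
  ⟨RingHom.ker (eval (ent g)), RingHom.ker_isPrime _⟩

/-- The Zariski topology on the invertible matrices. -/
scoped instance zariski : TopologicalSpace GLk := TopologicalSpace.induced point inferInstance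

theorem isInducing_point : Topology.IsInducing (point : GLk → _) := ⟨rfl⟩

scoped instance noetherianSpace : NoetherianSpace GLk :=
  Topology.IsInducing.noetherianSpace isInducing_point

theorem isClosed_iff {s : Set GLk} :
    IsClosed s ↔ ∃ S : Set (MvPolynomial (Fin n × Fin n) k), ∀ g, g ∈ s ↔ ∀ p ∈ S, eval (ent g) p = 0 := by
  rw [isInducing_point.isClosed_iff]
  constructor
  · rintro ⟨t, ht, rfl⟩
    obtain ⟨S, rfl⟩ := (PrimeSpectrum.isClosed_iff_zeroLocus _).1 ht
    exact ⟨S, fun g => Iff.rfl⟩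
  · rintro ⟨S, hS⟩
    exact ⟨PrimeSpectrum.zeroLocus S, PrimeSpectrum.isClosed_zeroLocus S, Set.ext fun g => ((hS g).trans Iff.rfl).symm⟩

/-- A regular function on the invertible matrices. -/
def IsReg (F : GLk → k) : Prop :=
  ∃ (p : MvPolynomial (Fin n × Fin n) k) (N : ℕ), ∀ g, F g * (g : Matrix (Fin n) (Fin n) k).det ^ N = eval (ent g) p

theorem det_ne_zero (g : GLk) : (g : Matrix (Fin n) (Fin n) k).det ≠ 0 :=
  ((Matrix.isUnit_iff_isUnit_det _).1 g.isUnit).ne_zero

theorem eval_det (g : GLk) :
    eval (ent g) (Matrix.det (Matrix.of fun a b : Fin n => (X (a, b) : MvPolynomial (Fin n × Fin n) k))) =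
      (g : Matrix (Fin n) (Fin n) k).det := by
  rw [RingHom.map_det]
  congr 1
  ext a b
  simp [ent]

theorem isReg_const (c : k) : IsReg fun _ : GLk => c := ⟨C c, 0, fun g => by simp⟩

theorem isReg_entry (a b : Fin n) : IsReg fun g : GLk => (g : Matrix (Fin n) (Fin n) k) a b :=
  ⟨X (a, b), 0, fun g => by simp [ent]⟩

theorem IsReg.mul {F F' : GLk → k} (h : IsReg F) (h' : IsReg F') : IsReg fun g => F g * F' g := by
  obtain ⟨p, N, hp⟩ := h
  obtain ⟨q, M, hq⟩ := h'
  exact ⟨p * q, N + M, fun g => by rw [map_mul, ← hp g, ← hq g, pow_add]; ring⟩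

theorem IsReg.add {F F' : GLk → k} (h : IsReg F) (h' : IsReg F') : IsReg fun g => F g + F' g := by
  obtain ⟨p, N, hp⟩ := h
  obtain ⟨q, M, hq⟩ := h'
  refine ⟨p * Matrix.det (Matrix.of fun a b => X (a, b)) ^ M + q * Matrix.det (Matrix.of fun a b => X (a, b)) ^ N,
    N + M, fun g => ?_⟩
  rw [map_add, map_mul, map_mul, map_pow, map_pow, eval_det, ← hp g, ← hq g, pow_add]
  ring

theorem IsReg.neg {F : GLk → k} (h : IsReg F) : IsReg fun g => -F g := by
  simpa using (isReg_const (n := n) (-1 : k)).mul h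

theorem IsReg.sub {F F' : GLk → k} (h : IsReg F) (h' : IsReg F') : IsReg fun g => F g - F' g := by
  simpa only [sub_eq_add_neg] using h.add h'.neg

theorem IsReg.sum {σ : Type*} (s : Finset σ) {F : σ → GLk → k} (h : ∀ a ∈ s, IsReg (F a)) :
    IsReg fun g => ∑ a ∈ s, F a g := by
  classical
  induction s using Finset.induction_on with
  | empty => simpa using isReg_const (n := n) (0 : k)
  | insert a s ha ih =>
    simp only [Finset.sum_insert ha]
    exact (h a (Finset.mem_insert_self _ _)).add (ih fun b hb => h b (Finset.mem_insert_of_mem hb))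

theorem IsReg.pow {F : GLk → k} (h : IsReg F) (m : ℕ) : IsReg fun g => F g ^ m := by
  induction m with
  | zero => simpa using isReg_const (n := n) (1 : k)
  | succ m ih => simpa only [pow_succ] using ih.mul h

theorem isReg_eval (p : MvPolynomial (Fin n × Fin n) k) : IsReg fun g : GLk => eval (ent g) p :=
  ⟨p, 0, fun g => by simp⟩

theorem isReg_inv_entry (a b : Fin n) : IsReg fun g : GLk => ((g⁻¹ : GLk) : Matrix (Fin n) (Fin n) k) a b := by
  refine ⟨(Matrix.adjugate (Matrix.of fun a b : Fin n => (X (a, b) : MvPolynomial (Fin n × Fin n) k))) a b, 1,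
    fun g => ?_⟩
  have e : (eval (ent g)).mapMatrix (Matrix.of fun a b : Fin n => (X (a, b) : MvPolynomial (Fin n × Fin n) k)) =
      (g : Matrix (Fin n) (Fin n) k) := by
    ext a b; simp [ent]
  have h := congrFun (congrFun (RingHom.map_adjugate (eval (ent g))
    (Matrix.of fun a b : Fin n => (X (a, b) : MvPolynomial (Fin n × Fin n) k))) a) b
  rw [RingHom.mapMatrix_apply, Matrix.map_apply] at h
  show ((g⁻¹ : GLk) : Matrix (Fin n) (Fin n) k) a b * (g : Matrix (Fin n) (Fin n) k).det ^ 1 = _
  rw [h, e, pow_one, Matrix.coe_units_inv, Matrix.inv_def, Matrix.smul_apply, smul_eq_mul,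
    Ring.inverse_eq_inv', mul_comm (_ * _), ← mul_assoc, mul_inv_cancel₀ (det_ne_zero g), one_mul]

theorem isClosed_eq {F F' : GLk → k} (h : IsReg F) (h' : IsReg F') : IsClosed {g | F g = F' g} := by
  obtain ⟨p, N, hp⟩ := h.sub h'
  refine isClosed_iff.2 ⟨{p}, fun g => ?_⟩
  simp only [Set.mem_singleton_iff, forall_eq, ← hp g, mul_eq_zero, pow_eq_zero_iff', det_ne_zero g, false_and,
    or_false, sub_eq_zero, Set.mem_ofPred_eq]

/-- A map is continuous when its matrix entries are regular. -/
theorem continuous_of_isReg {φ : GLk → GLk}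
    (h : ∀ a b, IsReg fun g => ((φ g : GLk) : Matrix (Fin n) (Fin n) k) a b) : Continuous φ := by
  refine continuous_iff_isClosed.2 fun s hs => ?_
  obtain ⟨S, hS⟩ := isClosed_iff.1 hs
  have hp : ∀ p : MvPolynomial (Fin n × Fin n) k, IsReg fun g => eval (ent (φ g)) p := fun p => by
    induction p using MvPolynomial.induction_on with
    | C c => simpa using isReg_const (n := n) c
    | add p q hp hq => simpa using hp.add hq
    | mul_X p x hp => simpa [ent] using hp.mul (h x.1 x.2)
  have : φ ⁻¹' s = ⋂ p ∈ S, {g | eval (ent (φ g)) p = 0} := by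
    ext g; simp [hS]
  rw [this]
  exact isClosed_biInter fun p _ => isClosed_eq (hp p) (isReg_const 0)

theorem isReg_mul_entry {φ ψ : GLk → GLk} (h : ∀ a b, IsReg fun g => ((φ g : GLk) : Matrix (Fin n) (Fin n) k) a b)
    (h' : ∀ a b, IsReg fun g => ((ψ g : GLk) : Matrix (Fin n) (Fin n) k) a b) (a b : Fin n) :
    IsReg fun g => ((φ g * ψ g : GLk) : Matrix (Fin n) (Fin n) k) a b := by
  simp only [Units.val_mul, Matrix.mul_apply]
  exact IsReg.sum _ fun c _ => (h a c).mul (h' c b)

theorem isReg_id_entry (a b : Fin n) : IsReg fun g : GLk => (((id g : GLk)) : Matrix (Fin n) (Fin n) k) a b :=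
  isReg_entry a b

theorem continuous_mul_left' (x : GLk) : Continuous (x * · : GLk → GLk) :=
  continuous_of_isReg (isReg_mul_entry (φ := fun _ => x) (ψ := id) (fun _ _ => isReg_const _) isReg_id_entry)

theorem continuous_mul_right' (x : GLk) : Continuous (· * x : GLk → GLk) :=
  continuous_of_isReg (isReg_mul_entry (φ := id) (ψ := fun _ => x) isReg_id_entry (fun _ _ => isReg_const _))

theorem continuous_inv' : Continuous (fun g : GLk => g⁻¹) := continuous_of_isReg isReg_inv_entry

theorem continuous_conj (x : GLk) : Continuous (fun g : GLk => x * g * x⁻¹) :=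
  (continuous_mul_right' x⁻¹).comp (continuous_mul_left' x)

/-- `g ↦ g * x * g⁻¹` -/
theorem continuous_conjugate (x : GLk) : Continuous (fun g : GLk => g * x * g⁻¹) :=
  continuous_of_isReg (isReg_mul_entry (φ := fun g => g * x) (ψ := fun g => g⁻¹)
    (isReg_mul_entry (φ := id) (ψ := fun _ => x) isReg_id_entry (fun _ _ => isReg_const _)) isReg_inv_entry)

theorem continuous_commutator' (x : GLk) : Continuous (fun g : GLk => x * g * x⁻¹ * g⁻¹) :=
  continuous_of_isReg (isReg_mul_entry (φ := fun g => x * g * x⁻¹) (ψ := fun g => g⁻¹)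
    (isReg_mul_entry (φ := fun g => x * g) (ψ := fun _ => x⁻¹)
      (isReg_mul_entry (φ := fun _ => x) (ψ := id) (fun _ _ => isReg_const _) isReg_id_entry)
      (fun _ _ => isReg_const _)) isReg_inv_entry)

theorem isClosed_singleton' (x : GLk) : IsClosed ({x} : Set GLk) := by
  have : ({x} : Set GLk) = ⋂ (a : Fin n) (b : Fin n),
      {g : GLk | (g : Matrix (Fin n) (Fin n) k) a b = (x : Matrix (Fin n) (Fin n) k) a b} := by
    ext g
    simp only [Set.mem_singleton_iff, Set.mem_iInter, Set.mem_ofPred_eq]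
    exact ⟨fun h _ _ => by rw [h], fun h => Units.ext (Matrix.ext h)⟩
  rw [this]
  exact isClosed_iInter fun a => isClosed_iInter fun b => isClosed_eq (isReg_entry a b) (isReg_const _)

theorem isClosed_commute (x : GLk) : IsClosed {g : GLk | g * x = x * g} := by
  have : {g : GLk | g * x = x * g} = (fun g => x * g * x⁻¹ * g⁻¹) ⁻¹' {1} := by
    ext g
    simp only [Set.mem_ofPred_eq, Set.mem_preimage, Set.mem_singleton_iff, mul_inv_eq_one]
    constructor
    · intro h; rw [← h, mul_inv_cancel_right]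
    · intro h; conv_lhs => rw [← h, inv_mul_cancel_right]
  rw [this]
  exact (isClosed_singleton' 1).preimage (continuous_commutator' x)

/-- The centraliser of a subset is closed. -/
theorem isClosed_centralizer (S : Set GLk) : IsClosed ((Subgroup.centralizer S : Subgroup GLk) : Set GLk) := by
  have : ((Subgroup.centralizer S : Subgroup GLk) : Set GLk) = ⋂ x ∈ S, {g | g * x = x * g} := by
    ext g
    simp [Subgroup.mem_centralizer_iff, eq_comm]
  rw [this]
  exact isClosed_biInter fun x _ => isClosed_commute x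

/-- An intersection of closed sets is the intersection of finitely many of them. -/
theorem exists_finset_iInter {α X : Type*} [TopologicalSpace X] [NoetherianSpace X] (s : α → Set X)
    (hs : ∀ a, IsClosed (s a)) : ∃ F : Finset α, ∀ a, (⋂ b ∈ F, s b) ⊆ s a := by
  classical
  obtain ⟨c, ⟨F, rfl⟩, hmin⟩ := WellFounded.has_min (wellFounded_lt (α := Closeds X))
    (Set.range fun F : Finset α => (⟨⋂ b ∈ F, s b, isClosed_biInter fun b _ => hs b⟩ : Closeds X)) ⟨_, ∅, rfl⟩
  refine ⟨F, fun a x hx => ?_⟩
  by_contra hxa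
  refine hmin _ ⟨insert a F, rfl⟩ ?_
  refine lt_of_le_of_ne (fun y hy => ?_) fun e => hxa ?_
  · simp only [SetLike.mem_coe, Closeds.mem_mk, Set.mem_iInter, Finset.mem_insert, forall_eq_or_imp] at hy ⊢
    exact hy.2
  · have : x ∈ (⟨⋂ b ∈ F, s b, isClosed_biInter fun b _ => hs b⟩ : Closeds X) := hx
    have e' : (⟨⋂ b ∈ insert a F, s b, isClosed_biInter fun b _ => hs b⟩ : Closeds X) =
        ⟨⋂ b ∈ F, s b, isClosed_biInter fun b _ => hs b⟩ := e
    rw [← e'] at this
    simp only [Closeds.mem_mk, Set.mem_iInter, Finset.mem_insert, forall_eq_or_imp] at this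
    exact this.1

/-- Separately continuous images of pairs of irreducible sets are irreducible. -/
theorem isPreirreducible_image2 {X Y Z : Type*} [TopologicalSpace X] [TopologicalSpace Y] [TopologicalSpace Z]
    {s : Set X} {t : Set Y} (hs : IsPreirreducible s) (ht : IsPreirreducible t) (f : X → Y → Z)
    (h1 : ∀ x, Continuous (f x)) (h2 : ∀ y, Continuous fun x => f x y) :
    IsPreirreducible (Set.image2 f s t) := by
  rintro U V hU hV ⟨z, ⟨a, ha, b, hb, rfl⟩, hzU⟩ ⟨w, ⟨a', ha', b', hb', rfl⟩, hwV⟩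
  obtain ⟨a'', ha'', hU', hV'⟩ := hs ((fun x => f x b) ⁻¹' U) ((fun x => f x b') ⁻¹' V) (hU.preimage (h2 b))
    (hV.preimage (h2 b')) ⟨a, ha, hzU⟩ ⟨a', ha', hwV⟩
  obtain ⟨b'', hb'', hU'', hV''⟩ := ht (f a'' ⁻¹' U) (f a'' ⁻¹' V) (hU.preimage (h1 a'')) (hV.preimage (h1 a''))
    ⟨b, hb, hU'⟩ ⟨b', hb', hV'⟩
  exact ⟨f a'' b'', ⟨a'', ha'', b'', hb'', rfl⟩, hU'', hV''⟩

end Groth.Agent.MatGrp21
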